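import Cfsg.Agent.Lib.StdM12.Model.Generate

/-!
Centralisers of involutions: the elementary subgroup of the outer one, normal subgroups with one involution in
the inner ones, and the Sylow subgroup centralising a central involution.
-/

set_option autoImplicit false

namespace CfsgLib.StdM12.Model

open CfsgGolay Data Cfsg
open Equiv (Perm)

theorem cen_code {r : Perm GolayPt} {cg C L : List ℕ} (K : Cls r cg C L) {y : Perm GolayPt} (hy : y ∈ cen r) :
    code y ∈ C := by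
  obtain ⟨i, hi, e⟩ := K.cent y (mem_cen.mp hy).1 (mem_cen.mp hy).2
  exact e ▸ getD_mem hi

theorem exists_cen {r : Perm GolayPt} {cg C L : List ℕ} (K : Cls r cg C L) {c : ℕ}
    (h : C.any (Nat.beq c) = true) : ∃ y ∈ cen r, code y = c := by
  obtain ⟨i, hi, e⟩ := exists_pos h
  obtain ⟨y, hy, hyc, hyr⟩ := K.mem i hi
  exact ⟨y, mem_cen.mpr ⟨hy, hyr⟩, hyc.trans e⟩

theorem card_cen {r : Perm GolayPt} {cg C L : List ℕ} (K : Cls r cg C L) : Nat.card (cen r) = C.length := by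
  choose y hy hyc hyr using K.mem
  rw [← Nat.card_fin C.length]
  refine (Nat.card_congr (Equiv.ofBijective
    (fun i : Fin C.length => (⟨y i i.2, mem_cen.mpr ⟨hy _ i.2, hyr _ i.2⟩⟩ : cen r)) ⟨fun a b e => ?_, fun g => ?_⟩)).symm
  · have e' := congrArg (fun w : cen r => code w.1) e
    simp only [hyc] at e'
    exact Fin.ext (incB_inj K.inc a.2 b.2 e')
  · obtain ⟨i, hi, e⟩ := K.cent g (mem_cen.mp g.2).1 (mem_cen.mp g.2).2
    exact ⟨⟨i, hi⟩, Subtype.ext (code_inj (by rw [hyc i hi, e]))⟩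

theorem exists_T : ∃ T : Subgroup (Perm GolayPt), T ≤ cen (rep 2) ∧ Nat.card T = 8 ∧ (∀ e ∈ T, e * e = 1) ∧
    ∃ e₁ ∈ T, ∃ e₂ ∈ T, e₁ ≠ 1 ∧ e₂ ≠ 1 ∧ e₁ ≠ e₂ ∧ ∀ e, (e = e₁ ∨ e = e₂ ∨ e = e₁ * e₂) →
      ∃ l ∈ MM, l * rep 2 * l⁻¹ = rep 2 * e := by
  obtain ⟨hlen, hinc, hall, hone, hQl, hQ, hprod, hne⟩ := t_ok
  simp only [List.all_eq_true, Bool.and_eq_true, Bool.not_eq_true'] at hall hQ
  let T : Subgroup (Perm GolayPt) :=
    { carrier := {g | code g ∈ tT}
      one_mem' := by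
        obtain ⟨i, hi, e⟩ := exists_pos hone
        show code 1 ∈ tT
        rw [code_one, ← e]
        exact getD_mem hi
      mul_mem' := by
        intro a b ha hb
        show code (a * b) ∈ tT
        obtain ⟨i, hi, e⟩ := exists_pos ((hall _ ha).2 _ hb)
        rw [code_mul, ← e]
        exact getD_mem hi
      inv_mem' := by
        intro a ha
        show code a⁻¹ ∈ tT
        rw [inv_eq_of_mul_eq_one_right (show a * a = 1 from code_inj (by
          rw [code_mul, code_one]; exact Nat.eq_of_beq_eq_true (hall _ ha).1.2))]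
        exact ha }
  have hTc : T ≤ cen (rep 2) := fun g hg => by
    obtain ⟨y, hy, e⟩ := exists_cen clsC' (hall _ hg).1.1
    rwa [← code_inj e]
  have hex : ∀ c ∈ tT, ∃ g ∈ T, code g = c := fun c hc => by
    obtain ⟨y, -, e⟩ := exists_cen clsC' (hall _ hc).1.1
    exact ⟨y, show code y ∈ tT by rwa [e], e⟩
  have hq : ∀ j < 3, ∃ e ∈ T, code e = (tQ.getD j (0, 0)).1 ∧ e ≠ 1 ∧ ∃ l ∈ MM, l * rep 2 * l⁻¹ = rep 2 * e := by
    intro j hj
    obtain ⟨⟨⟨hm, h1⟩, hlt⟩, hp⟩ := hQ _ (getD_mem (d := (0, 0)) (hQl ▸ hj))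
    obtain ⟨i, hi, ei⟩ := exists_pos hm
    obtain ⟨e, heT, hec⟩ := hex _ (getD_mem hi)
    rw [ei] at hec
    obtain ⟨l, hl, hlc⟩ := clsC'.cls (tQ.getD j (0, 0)).2 (by rw [clsC_ok.2.2]; exact Nat.le_of_ble_eq_true hlt)
    refine ⟨e, heT, hec, fun e1 => beq_false h1 (by rw [← hec, e1, code_one]), l, hl, code_inj ?_⟩
    rw [hlc, code_mul, hec, (rep_spec (by norm_num)).2.1]
    exact Nat.eq_of_beq_eq_true hp
  obtain ⟨e₁, h₁, c₁, n₁, l₁⟩ := hq 0 (by norm_num)
  obtain ⟨e₂, h₂, c₂, n₂, l₂⟩ := hq 1 (by norm_num)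
  obtain ⟨e₃, -, c₃, -, l₃⟩ := hq 2 (by norm_num)
  have h₃ : e₁ * e₂ = e₃ := code_inj (by rw [code_mul, c₁, c₂, c₃]; exact Nat.eq_of_beq_eq_true hprod)
  refine ⟨T, hTc, ?_, fun e he => code_inj (by
    rw [code_mul, code_one]; exact Nat.eq_of_beq_eq_true (hall _ he).1.2), e₁, h₁, e₂, h₂, n₁, n₂,
    fun e => beq_false hne (by rw [← c₁, ← c₂, e]), ?_⟩
  · choose y hy hyc using hex
    rw [← Nat.card_fin 8]
    refine (Nat.card_congr (Equiv.ofBijective
      (fun i : Fin 8 => (⟨y _ (getD_mem (d := 0) (show (i : ℕ) < tT.length by rw [hlen]; exact i.2)), hy _ _⟩ : T)) ⟨fun a b e => ?_, fun g => ?_⟩)).symm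
    · have e' := congrArg (fun w : T => code w.1) e
      simp only [hyc] at e'
      exact Fin.ext (incB_inj hinc (by rw [hlen]; exact a.2) (by rw [hlen]; exact b.2) e')
    · obtain ⟨i, hi, e⟩ := List.mem_iff_getElem.mp g.2
      exact ⟨⟨i, hlen ▸ hi⟩, Subtype.ext (code_inj (by
        simp only [hyc]; rw [List.getD_eq_getElem _ _ hi, e]))⟩
  · rintro e (rfl | rfl | rfl)
    · exact l₁
    · exact l₂
    · rw [h₃]; exact l₃

/-- A two-element. -/
def IsTwoEl (c : Perm GolayPt) : Prop := ∃ k : ℕ, c ^ 2 ^ k = 1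

/-- A normal subgroup with one involution of order eight, inner. -/
def BigCase (v : Perm GolayPt) (D : Subgroup (Perm GolayPt)) : Prop :=
  Nat.card D = 8 ∧ (∀ a ∈ AA, a ∉ MM → a * v = v * a → ∃ d ∈ D, a * d * a⁻¹ ∉ D) ∧
    ∃ c ∈ cen v, IsTwoEl c ∧ (∀ t ∈ D, ∃ q ∈ D, c * q * c⁻¹ ≠ t * q * t⁻¹) ∧ ∃ q ∈ D, c * q ≠ q * c

/-- What is used of an inner involution. -/
def VFacts (v : Perm GolayPt) : Prop :=
  (∀ D : Subgroup (Perm GolayPt), D ≤ MM → v ∈ D → (∀ d ∈ D, d * d = 1 → d = 1 ∨ d = v) →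
    (∀ c ∈ cen v, ∀ d ∈ D, c * d * c⁻¹ ∈ D) → (∀ d ∈ D, d = 1 ∨ d = v) ∨ BigCase v D) ∧
  ∀ a ∈ AA, a ∉ MM → a * v = v * a → ∃ c ∈ cen v, IsTwoEl c ∧ a * c ≠ c * a

theorem wit_spec {v : Perm GolayPt} {cg C L : List ℕ} (K : Cls v cg C L) {cv : ℕ} (hv : code v = cv)
    {W : List (List ℕ)} {ok : List ℕ} (h : witB cv C W ok = true) {D : Subgroup (Perm GolayPt)}
    (hone : ∀ d ∈ D, d * d = 1 → d = 1 ∨ d = v) (hn : ∀ c ∈ cen v, ∀ d ∈ D, c * d * c⁻¹ ∈ D)
    {d : Perm GolayPt} (hd : d ∈ D) (hdc : d ∈ cen v) : code d ∈ ok := by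
  simp only [witB, List.all_eq_true, List.mem_range, Bool.or_eq_true, Bool.and_eq_true, Bool.not_eq_true',
    Nat.blt_eq] at h
  obtain ⟨i, hi, e⟩ := K.cent d (mem_cen.mp hdc).1 (mem_cen.mp hdc).2
  rw [e]
  rcases h i hi with h1 | ⟨⟨⟨hw, h2⟩, hne1⟩, hnev⟩
  · obtain ⟨j, hj, ej⟩ := exists_pos h1
    exact ej ▸ getD_mem hj
  · exfalso
    have key : ∀ w : List ℕ, (∀ j ∈ w, j < C.length) → ∃ y ∈ D, code y = witC C (C.getD i 0) w := by
      intro w
      induction w with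
      | nil => exact fun _ => ⟨1, D.one_mem, code_one⟩
      | cons j w ih =>
        intro hj
        obtain ⟨y, hy, hyc⟩ := ih fun a ha => hj a (List.mem_cons_of_mem _ ha)
        obtain ⟨c, hc, hcc, hcr⟩ := K.mem j (hj j List.mem_cons_self)
        refine ⟨c * d * c⁻¹ * y, D.mul_mem (hn c (mem_cen.mpr ⟨hc, hcr⟩) d hd) hy, ?_⟩
        rw [code_mul, code_mul, code_mul, code_inv, hyc, hcc, e]
        rfl
    obtain ⟨y, hy, hyc⟩ := key _ hw
    rcases hone y hy (code_inj (by rw [code_mul, code_one, hyc]; exact Nat.eq_of_beq_eq_true h2)) with rfl | rfl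
    · exact beq_false hne1 (by rw [← hyc, code_one])
    · exact beq_false hnev (hyc.symm.trans hv)

theorem outer_split {k : ℕ} (hk : k < 3) {a : Perm GolayPt} (ha : a ∈ AA) (haM : a ∉ MM)
    (hak : a * rep k = rep k * a) :
    ∃ h z : Perm GolayPt, code h = outL.getD k 0 ∧ z ∈ cen (rep k) ∧ a = h * z := by
  obtain ⟨-, -, -, -, -, -, h, hh, hho, hhc, hhr⟩ := rep_spec hk
  refine ⟨h, h⁻¹ * a, hhc, mem_cen.mpr ⟨mul_out (AA.inv_mem hh) (fun e => hho ?_) ha haM, ?_⟩, by group⟩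
  · have := MM.inv_mem e; rwa [inv_inv] at this
  · exact ((show Commute h (rep k) from hhr).inv_left.mul_left (show Commute a (rep k) from hak)).eq

theorem move_spec {k : ℕ} {cg C L : List ℕ} (hk : k < 3) (K : Cls (rep k) cg C L)
    (h : moveB (outL.getD k 0) cg C = true) {a : Perm GolayPt} (ha : a ∈ AA) (haM : a ∉ MM)
    (hak : a * rep k = rep k * a) : ∃ c ∈ cen (rep k), IsTwoEl c ∧ a * c ≠ c * a := by
  simp only [moveB, Bool.and_eq_true, List.all_eq_true, List.any_eq_true, Bool.or_eq_true, Bool.not_eq_true'] at h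
  obtain ⟨h₀, z, hh₀, hz, rfl⟩ := outer_split hk ha haM hak
  obtain ⟨g, hg, hne⟩ := h.2 _ (cen_code K hz)
  obtain ⟨i, hi, rfl⟩ := List.mem_iff_getElem.mp hg
  obtain ⟨c, hc, hcc, hcr⟩ := K.gens i hi
  rw [List.getD_eq_getElem _ _ hi] at hcc
  refine ⟨c, mem_cen.mpr ⟨hc, hcr⟩, ?_, fun e => beq_false hne ?_⟩
  · rcases h.1 _ hg with h8 | h16
    · exact ⟨3, code_inj (by
        rw [show c ^ 2 ^ 3 = c * c * (c * c) * (c * c * (c * c)) by simp only [pow_succ, pow_zero, one_mul, pow_one, Nat.reduceMul, mul_assoc],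
          code_mul, code_mul, code_mul, hcc, code_one]
        exact Nat.eq_of_beq_eq_true h8)⟩
    · exact ⟨4, code_inj (by
        rw [show c ^ 2 ^ 4 = c * c * (c * c) * (c * c * (c * c)) * (c * c * (c * c) * (c * c * (c * c))) by
            simp only [pow_succ, pow_zero, one_mul, pow_one, Nat.reduceMul, mul_assoc],
          code_mul, code_mul, code_mul, code_mul, hcc, code_one]
        exact Nat.eq_of_beq_eq_true h16)⟩
  · rw [← hh₀, ← hcc, ← code_mul, ← code_mul, ← code_mul, e]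

theorem quat_spec {Q Q' : List ℕ} (h : quatB Q Q' = true) {D : Subgroup (Perm GolayPt)}
    (hone : ∀ d ∈ D, d * d = 1 → d = 1 ∨ d = rep 1) (hv : rep 1 ∈ D)
    (hn : ∀ c ∈ cen (rep 1), ∀ d ∈ D, c * d * c⁻¹ ∈ D) (hcov : ∀ d ∈ D, code d ∈ Q ++ Q')
    {d₀ : Perm GolayPt} (hd₀ : d₀ ∈ D) (h0Q : code d₀ ∈ Q) (h01 : d₀ ≠ 1) (h0v : d₀ ≠ rep 1) :
    BigCase (rep 1) D := by
  have hrc := (rep_spec (show 1 < 3 by norm_num)).2.1
  simp only [quatB, Bool.and_eq_true, List.all_eq_true, List.any_eq_true, Bool.or_eq_true, Bool.not_eq_true',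
    List.any_eq_false] at h
  obtain ⟨⟨⟨⟨⟨⟨⟨hlen, hinc⟩, hpid⟩, hvQ⟩, hconj⟩, hcross⟩, hout⟩, hc⟩ := h
  have hlen' : Q.length = 8 := Nat.eq_of_beq_eq_true hlen
  have notspecial : ∀ {d : Perm GolayPt}, d ≠ 1 → d ≠ rep 1 →
      Nat.beq (code d) pid = false ∧ Nat.beq (code d) (repL.getD 1 0) = false := fun {d} h1 h2 =>
    ⟨Bool.eq_false_iff.mpr fun e => h1 (code_inj (by rw [code_one]; exact Nat.eq_of_beq_eq_true e)),
      Bool.eq_false_iff.mpr fun e => h2 (code_inj (by rw [hrc]; exact Nat.eq_of_beq_eq_true e))⟩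
  obtain ⟨h0a, h0b⟩ := notspecial h01 h0v
  have hDQ : ∀ d ∈ D, code d ∈ Q := by
    intro d hd
    rcases List.mem_append.mp (hcov d hd) with hq | hq
    · exact hq
    · by_cases h1 : d = 1
      · obtain ⟨x, hx, e⟩ := hpid
        rw [h1, code_one, Nat.eq_of_beq_eq_true e]
        exact hx
      · by_cases h2 : d = rep 1
        · obtain ⟨x, hx, e⟩ := hvQ
          rw [h2, hrc, Nat.eq_of_beq_eq_true e]
          exact hx
        · exfalso
          obtain ⟨ha, hb⟩ := notspecial h1 h2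
          rcases hcross _ h0Q with (e | e) | e
          · rw [h0a] at e; exact Bool.noConfusion e
          · rw [h0b] at e; exact Bool.noConfusion e
          · rcases e _ hq with (e' | e') | ⟨⟨hsq, hn1⟩, hnv⟩
            · rw [ha] at e'; exact Bool.noConfusion e'
            · rw [hb] at e'; exact Bool.noConfusion e'
            · rw [← code_mul] at hsq hn1 hnv
              rcases hone _ (D.mul_mem hd₀ hd) (code_inj (by
                rw [code_mul, code_one]; exact Nat.eq_of_beq_eq_true hsq)) with e'' | e''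
              · exact beq_false hn1 (by rw [e'', code_one])
              · exact beq_false hnv (by rw [e'', hrc])
  have hQD : ∀ b ∈ Q, ∃ y ∈ D, code y = b := by
    intro b hb
    by_cases hb1 : Nat.beq b pid = true
    · exact ⟨1, D.one_mem, by rw [code_one, Nat.eq_of_beq_eq_true hb1]⟩
    by_cases hb2 : Nat.beq b (repL.getD 1 0) = true
    · exact ⟨rep 1, hv, by rw [hrc, Nat.eq_of_beq_eq_true hb2]⟩
    obtain ⟨-, h3⟩ := hconj _ h0Q
    rcases h3 with (e | e) | e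
    · rw [h0a] at e; exact Bool.noConfusion e
    · rw [h0b] at e; exact Bool.noConfusion e
    · rcases e _ hb with (e' | e') | ⟨x, hx, e'⟩
      · exact absurd e' hb1
      · exact absurd e' hb2
      · obtain ⟨c, hcc, hxc⟩ := exists_cen clsB' (c := x) (List.any_eq_true.mpr ⟨x, hx, Nat.beq_refl x⟩)
        refine ⟨c * d₀ * c⁻¹, hn c hcc d₀ hd₀, ?_⟩
        obtain ⟨-, hb3⟩ := hconj _ hb
        obtain ⟨i, hi, ei⟩ := exists_pos (List.any_eq_true.mpr (hconj _ hb).1)
        obtain ⟨yb, -, hyb, -⟩ := clsB'.mem i hi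
        rw [← ei, ← hyb]
        refine congrArg code ?_
        rw [mul_inv_eq_iff_eq_mul]
        exact code_inj (by rw [code_mul, code_mul, hyb, ei, hxc]; exact Nat.eq_of_beq_eq_true e')
  choose y hy hyc using hQD
  refine ⟨?_, fun a ha haM hav => ?_, ?_⟩
  · rw [← Nat.card_fin 8]
    refine (Nat.card_congr (Equiv.ofBijective
      (fun i : Fin 8 => (⟨y _ (getD_mem (d := 0) (show (i : ℕ) < Q.length by rw [hlen']; exact i.2)), hy _ _⟩ : D)) ⟨fun a b e => ?_, fun g => ?_⟩)).symm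
    · have e' := congrArg (fun w : D => code w.1) e
      simp only [hyc] at e'
      exact Fin.ext (incB_inj hinc (by rw [hlen']; exact a.2) (by rw [hlen']; exact b.2) e')
    · obtain ⟨i, hi, e⟩ := List.mem_iff_getElem.mp (hDQ g g.2)
      exact ⟨⟨i, hlen' ▸ hi⟩, Subtype.ext (code_inj (by simp only [hyc]; rw [List.getD_eq_getElem _ _ hi, e]))⟩
  · obtain ⟨h₀, z, hh₀, hz, rfl⟩ := outer_split (by norm_num) ha haM hav
    obtain ⟨q, hq, hno⟩ := hout _ (cen_code clsB' hz)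
    refine ⟨y q hq, hy q hq, fun hmem => hno _ (hDQ _ hmem) ?_⟩
    have hq' := hyc q hq
    generalize y q hq = w at hq' ⊢
    subst hq'
    rw [← hh₀, ← code_mul, ← code_mul, ← code_mul, inv_mul_cancel_right, Nat.beq_refl]
  · obtain ⟨g, hg, h1, q₂, hq₂, h2⟩ := hc
    obtain ⟨i, hi, rfl⟩ := List.mem_iff_getElem.mp hg
    obtain ⟨c, hc', hcc, hcr⟩ := clsB'.gens i hi
    rw [List.getD_eq_getElem _ _ hi] at hcc
    refine ⟨c, mem_cen.mpr ⟨hc', hcr⟩, ?_, fun t ht => ?_, y q₂ hq₂, hy q₂ hq₂, fun e => beq_false h2 ?_⟩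
    · have hm := move_ok.2
      simp only [moveB, Bool.and_eq_true, List.all_eq_true, Bool.or_eq_true] at hm
      rcases hm.1 _ hg with h8 | h16
      · exact ⟨3, code_inj (by
          rw [show c ^ 2 ^ 3 = c * c * (c * c) * (c * c * (c * c)) by simp only [pow_succ, pow_zero, one_mul, pow_one, Nat.reduceMul, mul_assoc],
            code_mul, code_mul, code_mul, hcc, code_one]
          exact Nat.eq_of_beq_eq_true h8)⟩
      · exact ⟨4, code_inj (by
          rw [show c ^ 2 ^ 4 = c * c * (c * c) * (c * c * (c * c)) * (c * c * (c * c) * (c * c * (c * c))) by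
              simp only [pow_succ, pow_zero, one_mul, pow_one, Nat.reduceMul, mul_assoc],
            code_mul, code_mul, code_mul, code_mul, hcc, code_one]
          exact Nat.eq_of_beq_eq_true h16)⟩
    · obtain ⟨q, hq, hne⟩ := h1 _ (hDQ t ht)
      refine ⟨y q hq, hy q hq, fun e => beq_false hne ?_⟩
      have e' := congrArg code e
      rw [code_mul, code_mul, code_inv, code_mul (t * _), code_mul t, code_inv, hcc, hyc] at e'
      exact e'
    · rw [← hcc, ← hyc q₂ hq₂, ← code_mul, ← code_mul, e]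

theorem vfacts_rep0 : VFacts (rep 0) := by
  refine ⟨fun D hD hv hone hn => Or.inl fun d hd => ?_, fun a ha haM hav =>
    move_spec (by norm_num) clsA' move_ok.1 ha haM hav⟩
  obtain ⟨-, hrc, hr2, hr1, -⟩ := rep_spec (show 0 < 3 by norm_num)
  have hdc : d ∈ cen (rep 0) := by
    refine mem_cen.mpr ⟨hD hd, ?_⟩
    rcases hone _ (D.mul_mem (D.mul_mem hd hv) (D.inv_mem hd)) (by
      rw [show d * rep 0 * d⁻¹ * (d * rep 0 * d⁻¹) = d * (rep 0 * rep 0) * d⁻¹ by group, hr2]; group) with e | e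
    · exact absurd (conj_eq_one_iff.mp e) hr1
    · exact mul_inv_eq_iff_eq_mul.mp e
  have hm := wit_spec clsA' hrc witA_ok hone hn hd hdc
  simp only [List.mem_cons, List.not_mem_nil, or_false] at hm
  rcases hm with e | e
  · exact Or.inl (code_inj (by rw [e, code_one]))
  · exact Or.inr (code_inj (by rw [e, hrc]))

theorem vfacts_rep1 : VFacts (rep 1) := by
  refine ⟨fun D hD hv hone hn => ?_, fun a ha haM hav => move_spec (by norm_num) clsB' move_ok.2 ha haM hav⟩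
  obtain ⟨-, hrc, hr2, hr1, -⟩ := rep_spec (show 1 < 3 by norm_num)
  have hcov : ∀ d ∈ D, code d ∈ qA ++ qB := fun d hd => by
    refine wit_spec clsB' hrc witB_ok hone hn hd (mem_cen.mpr ⟨hD hd, ?_⟩)
    rcases hone _ (D.mul_mem (D.mul_mem hd hv) (D.inv_mem hd)) (by
      rw [show d * rep 1 * d⁻¹ * (d * rep 1 * d⁻¹) = d * (rep 1 * rep 1) * d⁻¹ by group, hr2]; group) with e | e
    · exact absurd (conj_eq_one_iff.mp e) hr1
    · exact mul_inv_eq_iff_eq_mul.mp e
  by_cases hall : ∀ d ∈ D, d = 1 ∨ d = rep 1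
  · exact Or.inl hall
  · push Not at hall
    obtain ⟨d, hd, h1, h2⟩ := hall
    refine Or.inr ?_
    rcases List.mem_append.mp (hcov d hd) with h | h
    · exact quat_spec quat_ok.1 hone hv hn hcov hd h h1 h2
    · exact quat_spec quat_ok.2 hone hv hn
        (fun x hx => List.mem_append.mpr (List.mem_append.mp (hcov x hx)).symm) hd h h1 h2

end CfsgLib.StdM12.Model
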