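import Cfsg.Agent.Lib.StdM12.Tight
import Cfsg.Agent.Lib.StdM12.Fusion
import Cfsg.Agent.Lib.StdM12.Model.Cent

/-!
The facts on the automorphisms of M12 (`StdM12.AutFacts`, `StdM12.CentFacts`).
-/

set_option autoImplicit false
set_option linter.style.haveILetI false

namespace CfsgLib.StdM12.Model

open CfsgGolay Data Cfsg
open Equiv (Perm)

universe u

theorem no_centralizer {g : Perm GolayPt} (hg : g ∈ AA) (h : ∀ x ∈ MM, g * x = x * g) : g = 1 := by
  obtain ⟨-, hrc, -, hr1, hrM, -⟩ := rep_spec (show 0 < 3 by norm_num)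
  have hr : rep 0 ∈ MM := hrM (by norm_num)
  have hgr := h _ hr
  by_cases hgM : g ∈ MM
  · rcases centre_spec clsA' hrc centre_ok.1 (mem_cen.mpr ⟨hgM, hgr⟩)
      (fun y hy => h y (mem_cen.mp hy).1) with e | e
    · exact e
    · exfalso
      have htop : cen (rep 0) = MM := le_antisymm inf_le_left fun x hx =>
        mem_cen.mpr ⟨hx, by have := h x hx; rw [e] at this; exact this.symm⟩
      have hc := card_cen clsA'
      rw [htop, card_MM, centA_ok.2.2] at hc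
      norm_num at hc
  · obtain ⟨c, hc, -, hne⟩ := vfacts_rep0.2 g hg hgM hgr
    exact absurd (h c (mem_cen.mp hc).1) hne

section
variable {J : Type u} [Group J] (e : J ≃* ↥MM)

/-- The permutation of an element. -/
def pv : J →* Perm GolayPt := MM.subtype.comp e.toMonoidHom

theorem pv_mem (l : J) : pv e l ∈ MM := (e l).2

theorem pv_inj : Function.Injective (pv e) := MM.subtype_injective.comp e.injective

theorem pv_surj {x : Perm GolayPt} (hx : x ∈ MM) : ∃ l, pv e l = x :=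
  ⟨e.symm ⟨x, hx⟩, show ((e (e.symm ⟨x, hx⟩)) : Perm GolayPt) = x by rw [e.apply_symm_apply]⟩

/-- The automorphism given by an element of the extended group. -/
def conjA : ↥AA →* MulAut J where
  toFun g :=
    { toFun := fun l => e.symm ⟨(g : Perm GolayPt) * pv e l * (g : Perm GolayPt)⁻¹, AA_norm g.2 (pv_mem e l)⟩
      invFun := fun l => e.symm ⟨(g : Perm GolayPt)⁻¹ * pv e l * (g : Perm GolayPt)⁻¹⁻¹,
        AA_norm (AA.inv_mem g.2) (pv_mem e l)⟩
      left_inv := fun l => e.injective (by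
        rw [e.apply_symm_apply]
        refine Subtype.ext ?_
        show (g : Perm GolayPt)⁻¹ * pv e (e.symm ⟨_, _⟩) * (g : Perm GolayPt)⁻¹⁻¹ = pv e l
        rw [show ∀ x : MM, pv e (e.symm x) = x from fun x => congrArg Subtype.val (e.apply_symm_apply x)]
        group)
      right_inv := fun l => e.injective (by
        rw [e.apply_symm_apply]
        refine Subtype.ext ?_
        show (g : Perm GolayPt) * pv e (e.symm ⟨_, _⟩) * (g : Perm GolayPt)⁻¹ = pv e l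
        rw [show ∀ x : MM, pv e (e.symm x) = x from fun x => congrArg Subtype.val (e.apply_symm_apply x)]
        group)
      map_mul' := fun a b => e.injective (by
        simp only [map_mul, MulEquiv.apply_symm_apply]
        refine Subtype.ext ?_
        show (g : Perm GolayPt) * (pv e a * pv e b) * (g : Perm GolayPt)⁻¹ =
          (g : Perm GolayPt) * pv e a * (g : Perm GolayPt)⁻¹ * ((g : Perm GolayPt) * pv e b * (g : Perm GolayPt)⁻¹)
        group) }
  map_one' := MulEquiv.ext fun l => pv_inj e (by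
    show ((e (e.symm ⟨_, _⟩)) : Perm GolayPt) = pv e l
    rw [e.apply_symm_apply]
    simp)
  map_mul' g h := MulEquiv.ext fun l => pv_inj e (by
    show ((e (e.symm ⟨_, _⟩)) : Perm GolayPt) = ((e (e.symm ⟨_, _⟩)) : Perm GolayPt)
    rw [e.apply_symm_apply, e.apply_symm_apply]
    show ((g * h : ↥AA) : Perm GolayPt) * pv e l * ((g * h : ↥AA) : Perm GolayPt)⁻¹ =
      (g : Perm GolayPt) * pv e (e.symm ⟨_, _⟩) * (g : Perm GolayPt)⁻¹
    rw [show ∀ x : MM, pv e (e.symm x) = x from fun x => congrArg Subtype.val (e.apply_symm_apply x),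
      Subgroup.coe_mul]
    group)

theorem pv_conjA (g : ↥AA) (l : J) : pv e (conjA e g l) = (g : Perm GolayPt) * pv e l * (g : Perm GolayPt)⁻¹ :=
  congrArg Subtype.val (e.apply_symm_apply _)

theorem conjA_pv (l : J) : conjA e ⟨pv e l, MM_le_AA (pv_mem e l)⟩ = MulAut.conj l :=
  MulEquiv.ext fun m => pv_inj e (by rw [pv_conjA, MulAut.conj_apply, map_mul, map_mul, map_inv])

theorem conjA_inj : Function.Injective (conjA e) := by
  rw [injective_iff_map_eq_one]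
  intro g hg
  refine Subtype.ext (no_centralizer g.2 fun x hx => ?_)
  obtain ⟨l, rfl⟩ := pv_surj e hx
  have h := pv_conjA e g l
  rw [hg, MulAut.one_apply] at h
  exact (mul_inv_eq_iff_eq_mul.mp h.symm)

theorem conj_injective (e : J ≃* ↥MM) : Function.Injective (MulAut.conj : J →* MulAut J) := fun a b h => by
  rw [← conjA_pv e a, ← conjA_pv e b] at h
  have h' : pv e a = pv e b := congrArg (fun w : ↥AA => (w : Perm GolayPt)) (conjA_inj e h)
  exact pv_inj e h'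

theorem conjA_surj : Function.Surjective (conjA e) := by
  haveI : Finite J := Finite.of_equiv _ e.symm.toEquiv
  refine ((conjA_inj e).bijective_of_nat_card_le ?_).2
  rw [card_AA]
  have e' : J ≃* ↥Spor.M12 := e.trans (MulEquiv.subgroupCongr mm_eq.symm)
  rw [Nat.card_congr (MulAut.congr e').toEquiv]
  have hi : (Inn ↥Spor.M12).index = 2 := CfsgGolay.OutSmall.out_M12
  rw [← Subgroup.card_mul_index (Inn ↥Spor.M12), hi,
    ← Nat.card_congr (MonoidHom.ofInjective (conj_injective (MulEquiv.subgroupCongr mm_eq))).toEquiv,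
    Nat.card_congr (MulEquiv.subgroupCongr mm_eq).toEquiv, card_MM]

theorem lift (a : MulAut J) : ∃ g : ↥AA, conjA e g = a := conjA_surj e a

theorem inner_iff (g : ↥AA) : conjA e g ∈ (MulAut.conj : J →* MulAut J).range ↔ (g : Perm GolayPt) ∈ MM := by
  constructor
  · rintro ⟨l, hl⟩
    rw [← conjA_pv e l] at hl
    rw [← conjA_inj e hl]
    exact pv_mem e l
  · intro h
    obtain ⟨l, hl⟩ := pv_surj e h
    exact ⟨l, by rw [← conjA_pv e l]; exact congrArg (conjA e) (Subtype.ext hl)⟩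

/-- The image of a subgroup. -/
def img (S : Subgroup J) : Subgroup (Perm GolayPt) := S.map (pv e)

theorem img_le (S : Subgroup J) : img e S ≤ MM := by rintro _ ⟨l, -, rfl⟩; exact pv_mem e l

theorem card_img (S : Subgroup J) : Nat.card (img e S) = Nat.card S := Subgroup.card_map_of_injective (pv_inj e)

theorem pv_mem_cen {v c : J} : pv e c ∈ cen (pv e v) ↔ c * v = v * c := by
  rw [mem_cen, ← map_mul, ← map_mul, (pv_inj e).eq_iff]
  exact ⟨fun h => h.2, fun h => ⟨pv_mem e c, h⟩⟩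

theorem cen_conj {r g y : Perm GolayPt} (hg : g ∈ MM) : g * y * g⁻¹ ∈ cen (g * r * g⁻¹) ↔ y ∈ cen r := by
  rw [mem_cen, mem_cen]
  constructor
  · rintro ⟨h1, h2⟩
    refine ⟨?_, ?_⟩
    · have := MM.mul_mem (MM.mul_mem (MM.inv_mem hg) h1) hg
      rwa [show g⁻¹ * (g * y * g⁻¹) * g = y by group] at this
    · calc y * r = g⁻¹ * (g * y * g⁻¹ * (g * r * g⁻¹)) * g := by group
        _ = r * y := by rw [h2]; group
  · rintro ⟨h1, h2⟩
    refine ⟨MM.mul_mem (MM.mul_mem hg h1) (MM.inv_mem hg), ?_⟩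
    rw [show g * y * g⁻¹ * (g * r * g⁻¹) = g * (y * r) * g⁻¹ by group, h2]; group

theorem VFacts.conj {r g : Perm GolayPt} (hg : g ∈ MM) (h : VFacts r) : VFacts (g * r * g⁻¹) := by
  have hout : ∀ {a : Perm GolayPt}, a ∈ AA → a ∉ MM → a * (g * r * g⁻¹) = g * r * g⁻¹ * a →
      g⁻¹ * a * g ∈ AA ∧ g⁻¹ * a * g ∉ MM ∧ g⁻¹ * a * g * r = r * (g⁻¹ * a * g) := fun {a} ha haM hav => by
    refine ⟨AA.mul_mem (AA.mul_mem (AA.inv_mem (MM_le_AA hg)) ha) (MM_le_AA hg), fun hm => haM ?_, ?_⟩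
    · have := MM.mul_mem (MM.mul_mem hg hm) (MM.inv_mem hg)
      rwa [show g * (g⁻¹ * a * g) * g⁻¹ = a by group] at this
    · calc g⁻¹ * a * g * r = g⁻¹ * (a * (g * r * g⁻¹)) * g := by group
        _ = r * (g⁻¹ * a * g) := by rw [hav]; group
  refine ⟨fun D hD hv hone hn => ?_, fun a ha haM hav => ?_⟩
  · set D' := D.map (MulAut.conj g⁻¹).toMonoidHom
    have hD' : ∀ {x : Perm GolayPt}, x ∈ D' ↔ g * x * g⁻¹ ∈ D := fun {x} => by
      constructor
      · rintro ⟨y, hy, rfl⟩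
        show g * (g⁻¹ * y * g⁻¹⁻¹) * g⁻¹ ∈ D
        rwa [show g * (g⁻¹ * y * g⁻¹⁻¹) * g⁻¹ = y by group]
      · exact fun hx => ⟨_, hx, show g⁻¹ * (g * x * g⁻¹) * g⁻¹⁻¹ = x by group⟩
    have hle : D' ≤ MM := fun x hx => by
      have := MM.mul_mem (MM.mul_mem (MM.inv_mem hg) (hD (hD'.mp hx))) hg
      rwa [show g⁻¹ * (g * x * g⁻¹) * g = x by group] at this
    rcases h.1 D' hle (hD'.mpr hv) (fun d hd hd2 => by
        rcases hone _ (hD'.mp hd) (by rw [show g * d * g⁻¹ * (g * d * g⁻¹) = g * (d * d) * g⁻¹ by group, hd2]; group) with e' | e'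
        · exact Or.inl (conj_eq_one_iff.mp e')
        · exact Or.inr (mul_left_cancel (mul_right_cancel e')))
      (fun c hc d hd => hD'.mpr (by
        rw [show g * (c * d * c⁻¹) * g⁻¹ = g * c * g⁻¹ * (g * d * g⁻¹) * (g * c * g⁻¹)⁻¹ by group]
        exact hn _ ((cen_conj hg).mpr hc) _ (hD'.mp hd))) with hsmall | ⟨hc8, hno, c, hc, ⟨k, hk⟩, h1, q, hq, hcq⟩
    · refine Or.inl fun d hd => ?_
      rcases hsmall (g⁻¹ * d * g) (hD'.mpr (by rwa [show g * (g⁻¹ * d * g) * g⁻¹ = d by group])) with e' | e'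
      · left; rw [show d = g * (g⁻¹ * d * g) * g⁻¹ by group, e']; group
      · right; rw [show d = g * (g⁻¹ * d * g) * g⁻¹ by group, e']
    · refine Or.inr ⟨?_, fun a ha haM hav => ?_, g * c * g⁻¹, (cen_conj hg).mpr hc, ⟨k, ?_⟩, fun t ht => ?_,
        g * q * g⁻¹, hD'.mp hq, fun e' => hcq ?_⟩
      · rw [← hc8, Subgroup.card_map_of_injective (MulAut.conj g⁻¹).injective]
      · obtain ⟨h1', h2', h3'⟩ := hout ha haM hav
        obtain ⟨d, hd, hnd⟩ := hno _ h1' h2' h3'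
        refine ⟨_, hD'.mp hd, fun hm => hnd (hD'.mpr ?_)⟩
        rwa [show g * (g⁻¹ * a * g * d * (g⁻¹ * a * g)⁻¹) * g⁻¹ = a * (g * d * g⁻¹) * a⁻¹ by group]
      · rw [conj_pow, hk]; group
      · obtain ⟨x, hx, hne⟩ := h1 (g⁻¹ * t * g) (hD'.mpr (by rwa [show g * (g⁻¹ * t * g) * g⁻¹ = t by group]))
        refine ⟨_, hD'.mp hx, fun e' => hne ?_⟩
        calc c * x * c⁻¹ = g⁻¹ * (g * c * g⁻¹ * (g * x * g⁻¹) * (g * c * g⁻¹)⁻¹) * g := by group
          _ = g⁻¹ * t * g * x * (g⁻¹ * t * g)⁻¹ := by rw [e']; group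
      · calc c * q = g⁻¹ * (g * c * g⁻¹ * (g * q * g⁻¹)) * g := by group
          _ = q * c := by rw [e']; group
  · obtain ⟨h1, h2, h3⟩ := hout ha haM hav
    obtain ⟨c, hc, ⟨k, hk⟩, hne⟩ := h.2 _ h1 h2 h3
    refine ⟨g * c * g⁻¹, (cen_conj hg).mpr hc, ⟨k, by rw [conj_pow, hk]; group⟩, fun e' => hne ?_⟩
    calc g⁻¹ * a * g * c = g⁻¹ * (a * (g * c * g⁻¹)) * g := by group
      _ = c * (g⁻¹ * a * g) := by rw [e']; group

theorem vfacts {v : Perm GolayPt} (hv : v ∈ MM) (hv2 : v * v = 1) (hv1 : v ≠ 1) : VFacts v := by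
  obtain ⟨k, hk, g, hg, rfl⟩ := inner_class hv hv2 hv1
  interval_cases k
  · exact vfacts_rep0.conj hg
  · exact vfacts_rep1.conj hg

include e

theorem maximal_J {u v : J} (hu : u * u = 1) (hu1 : u ≠ 1) (hv : v * v = 1) (hv1 : v ≠ 1) (huv : u ≠ v) :
    Subgroup.closure {c : J | c * u = u * c ∨ c * v = v * c} = ⊤ := by
  set H := Subgroup.closure {c : J | c * u = u * c ∨ c * v = v * c}
  have h := maximal (pv_mem e u) (by rw [← map_mul, hu, map_one]) (fun h => hu1 (pv_inj e (h.trans (map_one _).symm)))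
    (pv_mem e v) (by rw [← map_mul, hv, map_one]) (fun h => hv1 (pv_inj e (h.trans (map_one _).symm)))
    (fun h => huv (pv_inj e h)) (img_le e H) (fun x hx => by
      obtain ⟨c, rfl⟩ := pv_surj e (mem_cen.mp hx).1
      exact ⟨c, Subgroup.subset_closure (Or.inl ((pv_mem_cen e).mp hx)), rfl⟩) fun x hx => by
      obtain ⟨c, rfl⟩ := pv_surj e (mem_cen.mp hx).1
      exact ⟨c, Subgroup.subset_closure (Or.inr ((pv_mem_cen e).mp hx)), rfl⟩
  rw [eq_top_iff]
  intro l _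
  obtain ⟨m, hm, he⟩ := (h.ge (pv_mem e l) : pv e l ∈ img e H)
  rwa [← pv_inj e he]

theorem quad_J (a : MulAut J) (ha2 : a * a = 1) (ha : a ∉ (MulAut.conj : J →* MulAut J).range) :
    (∀ S : Subgroup J, IsPGroup 2 ↥S → (∀ s ∈ S, a s = s) → Nat.card S ≤ 8) ∧
    ∀ S : Subgroup J, IsPGroup 2 ↥S → (∀ s ∈ S, a s = s) →
      ∃ T : Subgroup J, S ≤ T ∧ (∀ t ∈ T, a t = t) ∧ Nat.card T = 8 ∧ (∀ t ∈ T, t * t = 1) ∧
        ∃ e₁ ∈ T, ∃ e₂ ∈ T, e₁ ≠ 1 ∧ e₂ ≠ 1 ∧ e₁ ≠ e₂ ∧ ∀ t, (t = e₁ ∨ t = e₂ ∨ t = e₁ * e₂) →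
          ∃ l : J, MulAut.conj l * a * (MulAut.conj l)⁻¹ = a * MulAut.conj t := by
  haveI : Fact (Nat.Prime 2) := ⟨Nat.prime_two⟩
  obtain ⟨⟨g, hg⟩, rfl⟩ := lift e a
  rw [inner_iff] at ha
  have hg2 : g * g = 1 := congrArg Subtype.val
    (conjA_inj e (ha2.trans (map_one (conjA e)).symm |> ((map_mul (conjA e) ⟨g, hg⟩ ⟨g, hg⟩).trans ·)))
  have hg1 : g ≠ 1 := fun h => ha (h ▸ MM.one_mem)
  obtain ⟨k, hk, x, hx, hxg⟩ := involutions hg hg2 hg1
  obtain rfl : k = 2 := by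
    by_contra h
    refine ha ?_
    show g ∈ MM
    rw [← hxg]
    exact MM.mul_mem (MM.mul_mem hx ((rep_spec hk).2.2.2.2.1 (by omega))) (MM.inv_mem hx)
  obtain ⟨T₀, hT₀, hT8, hTsq, f₁, hf₁, f₂, hf₂, n₁, n₂, n₁₂, hl⟩ := exists_T
  have hC : Nat.card (cen (rep 2)) = 120 := by rw [card_cen clsC', centC_ok.2.2]
  let P : Sylow 2 (cen (rep 2)) := Sylow.ofCard (T₀.subgroupOf _) (by
    rw [Nat.card_congr (Subgroup.subgroupOfEquivOfLe hT₀).toEquiv, hT8, hC,
      show (120 : ℕ) = 2 ^ 3 * 15 by norm_num, Nat.factorization_mul (by norm_num) (by norm_num),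
      Nat.Prime.factorization_pow Nat.prime_two]
    simp [Nat.factorization_eq_zero_of_not_dvd (by norm_num : ¬ 2 ∣ 15)])
  have key : ∀ S : Subgroup J, IsPGroup 2 ↥S → (∀ s ∈ S, conjA e ⟨g, hg⟩ s = s) →
      ∃ c : Perm GolayPt, c ∈ cen (rep 2) ∧ ∀ s ∈ S, c * (x⁻¹ * pv e s * x) * c⁻¹ ∈ T₀ := by
    intro S hS hfix
    set S' := S.map ((MulAut.conj x⁻¹).toMonoidHom.comp (pv e))
    have hS' : S' ≤ cen (rep 2) := by
      rintro _ ⟨s, hs, rfl⟩
      show x⁻¹ * pv e s * x⁻¹⁻¹ ∈ cen (rep 2)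
      have h1 := congrArg (pv e) (hfix s hs)
      rw [pv_conjA, mul_inv_eq_iff_eq_mul] at h1
      rw [inv_inv]
      refine mem_cen.mpr ⟨MM.mul_mem (MM.mul_mem (MM.inv_mem hx) (pv_mem e s)) hx, ?_⟩
      rw [show rep 2 = x⁻¹ * g * x by rw [← hxg]; group]
      calc x⁻¹ * pv e s * x * (x⁻¹ * g * x) = x⁻¹ * (pv e s * g) * x := by group
        _ = x⁻¹ * g * x * (x⁻¹ * pv e s * x) := by rw [← h1]; group
    have h2 : IsPGroup 2 (S'.subgroupOf (cen (rep 2))) := (hS.map _).of_equiv (Subgroup.subgroupOfEquivOfLe hS').symm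
    obtain ⟨Q, hQ⟩ := h2.exists_le_sylow
    obtain ⟨c, hc⟩ := MulAction.exists_smul_eq (cen (rep 2)) Q P
    refine ⟨c, c.2, fun s hs => ?_⟩
    have hs' : x⁻¹ * pv e s * x ∈ S' := ⟨s, hs, show x⁻¹ * pv e s * x⁻¹⁻¹ = _ by rw [inv_inv]⟩
    have : c * ⟨_, hS' hs'⟩ * c⁻¹ ∈ ((P : Sylow 2 (cen (rep 2))) : Subgroup (cen (rep 2))) := by
      rw [← hc, Sylow.coe_subgroup_smul]
      exact Subgroup.smul_mem_pointwise_smul (⟨_, hS' hs'⟩ : cen (rep 2)) (MulAut.conj c) _ (hQ hs')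
    exact this
  have big : ∀ S : Subgroup J, IsPGroup 2 ↥S → (∀ s ∈ S, conjA e ⟨g, hg⟩ s = s) →
      ∃ T : Subgroup J, S ≤ T ∧ (∀ t ∈ T, conjA e ⟨g, hg⟩ t = t) ∧ Nat.card T = 8 ∧ (∀ t ∈ T, t * t = 1) ∧
        ∃ e₁ ∈ T, ∃ e₂ ∈ T, e₁ ≠ 1 ∧ e₂ ≠ 1 ∧ e₁ ≠ e₂ ∧ ∀ t, (t = e₁ ∨ t = e₂ ∨ t = e₁ * e₂) →
          ∃ l : J, MulAut.conj l * conjA e ⟨g, hg⟩ * (MulAut.conj l)⁻¹ = conjA e ⟨g, hg⟩ * MulAut.conj t := by
    intro S hS hfix
    obtain ⟨c, hc, hcS⟩ := key S hS hfix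
    set w := x * c⁻¹
    have hw : w ∈ MM := MM.mul_mem hx (MM.inv_mem (mem_cen.mp hc).1)
    have hcr : Commute c (rep 2) := (mem_cen.mp hc).2
    have hwg : w * rep 2 * w⁻¹ = g := by
      rw [show w * rep 2 * w⁻¹ = x * (c⁻¹ * rep 2 * c) * x⁻¹ by simp only [w]; group, hcr.inv_left.eq,
        inv_mul_cancel_right, hxg]
    set T₁ := T₀.map (MulAut.conj w).toMonoidHom
    have hT₁ : ∀ t ∈ T₀, w * t * w⁻¹ ∈ MM := fun t ht =>
      MM.mul_mem (MM.mul_mem hw (mem_cen.mp (hT₀ ht)).1) (MM.inv_mem hw)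
    set T := T₁.comap (pv e)
    have himg : img e T = T₁ := by
      refine le_antisymm (Subgroup.map_comap_le _ _) fun y hy => ?_
      obtain ⟨t, ht, rfl⟩ := hy
      obtain ⟨l, hl'⟩ := pv_surj e (hT₁ t ht)
      exact ⟨l, show pv e l ∈ T₁ from hl' ▸ ⟨t, ht, rfl⟩, hl'⟩
    have hmemT : ∀ t ∈ T, ∃ y ∈ T₀, pv e t = w * y * w⁻¹ := fun t ht => by
      obtain ⟨y, hy, ey⟩ := (ht : pv e t ∈ T₁); exact ⟨y, hy, ey.symm⟩
    obtain ⟨p₁, hp₁⟩ := pv_surj e (hT₁ f₁ hf₁)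
    obtain ⟨p₂, hp₂⟩ := pv_surj e (hT₁ f₂ hf₂)
    refine ⟨T, fun s hs => ?_, fun t ht => ?_, ?_, fun t ht => ?_, p₁, show pv e p₁ ∈ T₁ from hp₁ ▸ ⟨f₁, hf₁, rfl⟩,
      p₂, show pv e p₂ ∈ T₁ from hp₂ ▸ ⟨f₂, hf₂, rfl⟩, ?_, ?_, ?_, ?_⟩
    · refine ⟨c * (x⁻¹ * pv e s * x) * c⁻¹, hcS s hs, ?_⟩
      show w * (c * (x⁻¹ * pv e s * x) * c⁻¹) * w⁻¹ = pv e s
      simp only [w]; group
    · obtain ⟨y, hy, ey⟩ := hmemT t ht
      refine pv_inj e ?_
      have hyr : Commute y (rep 2) := (mem_cen.mp (hT₀ hy)).2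
      rw [pv_conjA, ey]
      show g * (w * y * w⁻¹) * g⁻¹ = _
      rw [← hwg, show w * rep 2 * w⁻¹ * (w * y * w⁻¹) * (w * rep 2 * w⁻¹)⁻¹ = w * (rep 2 * y * (rep 2)⁻¹) * w⁻¹ by group,
        ← hyr.eq, mul_inv_cancel_right]
    · rw [← card_img e, himg, Subgroup.card_map_of_injective (MulAut.conj w).injective, hT8]
    · obtain ⟨y, hy, ey⟩ := hmemT t ht
      refine pv_inj e ?_
      rw [map_mul, map_one, ey, show w * y * w⁻¹ * (w * y * w⁻¹) = w * (y * y) * w⁻¹ by group, hTsq y hy, mul_one,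
        mul_inv_cancel]
    · exact fun h => n₁ (conj_eq_one_iff.mp (hp₁.symm.trans (by rw [h, map_one])))
    · exact fun h => n₂ (conj_eq_one_iff.mp (hp₂.symm.trans (by rw [h, map_one])))
    · exact fun h => n₁₂ (mul_left_cancel (mul_right_cancel (hp₁.symm.trans (by rw [h, hp₂]))))
    · intro t ht
      obtain ⟨y, hy, ey⟩ : ∃ y, (y = f₁ ∨ y = f₂ ∨ y = f₁ * f₂) ∧ pv e t = w * y * w⁻¹ := by
        rcases ht with rfl | rfl | rfl
        · exact ⟨f₁, Or.inl rfl, hp₁⟩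
        · exact ⟨f₂, Or.inr (Or.inl rfl), hp₂⟩
        · exact ⟨_, Or.inr (Or.inr rfl), by rw [map_mul, hp₁, hp₂]; group⟩
      obtain ⟨l₀, hl₀, hl₀e⟩ := hl y hy
      obtain ⟨l, hl'⟩ := pv_surj e (MM.mul_mem (MM.mul_mem hw hl₀) (MM.inv_mem hw))
      refine ⟨l, ?_⟩
      rw [← conjA_pv e l, ← conjA_pv e t, ← map_inv, ← map_mul, ← map_mul, ← map_mul]
      refine congrArg (conjA e) (Subtype.ext ?_)
      show pv e l * g * (pv e l)⁻¹ = g * pv e t
      rw [hl', ey, ← hwg, show w * l₀ * w⁻¹ * (w * rep 2 * w⁻¹) * (w * l₀ * w⁻¹)⁻¹ = w * (l₀ * rep 2 * l₀⁻¹) * w⁻¹ by group,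
        hl₀e]
      group
  refine ⟨fun S hS hfix => ?_, big⟩
  obtain ⟨T, hST, -, hT, -⟩ := big S hS hfix
  haveI : Finite J := Finite.of_equiv _ e.symm.toEquiv
  exact hT ▸ Subgroup.card_le_of_le hST

theorem big_J (X : Subgroup (MulAut J)) (D : Subgroup J) (v : J) (hX : IsPGroup 2 ↥X) (hX2 : 2 < Nat.card X)
    (hv : v * v = 1) (hv1 : v ≠ 1) (hvD : v ∈ D) (hvX : MulAut.conj v ∈ X)
    (hone : ∀ d ∈ D, d * d = 1 → d = 1 ∨ d = v) (hn : ∀ c : J, c * v = v * c → ∀ d ∈ D, c * d * c⁻¹ ∈ D)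
    (hXD : ∀ l : J, MulAut.conj l ∈ X → l ∈ D)
    (hmax : ∀ S : Subgroup J, IsPGroup 2 ↥S → S ≤ D →
      Nat.card S ≤ Nat.card (X.comap (MulAut.conj : J →* MulAut J)))
    (hstab : ∀ x ∈ X, ∀ d ∈ D, x d ∈ D) (hcD : ∀ c : J, c * v = v * c → ∀ x ∈ X, c * x c⁻¹ ∈ D) :
    (∃ c : J, c * v = v * c ∧ IsPGroup 2 ↥(Subgroup.zpowers c) ∧
      (∀ x ∈ X, MulAut.conj c * x * (MulAut.conj c)⁻¹ ∈ X) ∧
      (∀ t ∈ X, ∃ x ∈ X, MulAut.conj c * x * (MulAut.conj c)⁻¹ ≠ t * x * t⁻¹) ∧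
      ∃ x ∈ X, Even (orderOf (c * x c⁻¹))) ∧
    ∀ a : MulAut J, (∀ x ∈ X, a * x = x * a) → ∃ x ∈ X, ∃ l : J, a = x * MulAut.conj l := by
  classical
  haveI : Fact (Nat.Prime 2) := ⟨Nat.prime_two⟩
  haveI : Finite J := Finite.of_equiv _ e.symm.toEquiv
  have hci := conj_injective e
  obtain ⟨hcase, hmove⟩ := vfacts (pv_mem e v) (by rw [← map_mul, hv, map_one])
    (fun h => hv1 (pv_inj e (h.trans (map_one _).symm)))
  have hout : ∀ {x : MulAut J}, x ∉ (MulAut.conj : J →* MulAut J).range → x v = v →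
      ∃ g : Perm GolayPt, ∃ hg : g ∈ AA, g ∉ MM ∧ g * pv e v = pv e v * g ∧ conjA e ⟨g, hg⟩ = x := fun {x} hx hxv => by
    obtain ⟨⟨g, hg⟩, rfl⟩ := lift e x
    rw [inner_iff] at hx
    refine ⟨g, hg, hx, ?_, rfl⟩
    have := congrArg (pv e) hxv
    rw [pv_conjA] at this
    exact mul_inv_eq_iff_eq_mul.mp this
  have two_el : ∀ {c : J}, IsTwoEl (pv e c) → IsPGroup 2 ↥(Subgroup.zpowers c) := fun {c} ⟨k, hk⟩ => by
    obtain ⟨j, -, hj⟩ := (Nat.dvd_prime_pow Nat.prime_two).mp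
      (orderOf_dvd_of_pow_eq_one (pv_inj e (by rw [map_pow, hk, map_one]) : c ^ 2 ^ k = 1))
    exact IsPGroup.of_card (n := j) (by rw [Nat.card_zpowers, hj])
  rcases hcase (img e D) (img_le e D) ⟨v, hvD, rfl⟩ (by
      rintro _ ⟨d, hd, rfl⟩ hd2
      rcases hone d hd (pv_inj e (by rw [map_mul, hd2, map_one])) with rfl | rfl
      · exact Or.inl (map_one _)
      · exact Or.inr rfl)
    (by
      rintro c hc _ ⟨d, hd, rfl⟩
      obtain ⟨c, rfl⟩ := pv_surj e (mem_cen.mp hc).1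
      exact ⟨_, hn c ((pv_mem_cen e).mp hc) d hd, by rw [map_mul, map_mul, map_inv]⟩) with hsmall | ⟨h8, hno, cc, hcc, hc2, hct, q₀, hq₀, hcq⟩
  · have hD : ∀ d ∈ D, d = 1 ∨ d = v := fun d hd => by
      rcases hsmall _ ⟨d, hd, rfl⟩ with h | h
      · exact Or.inl (pv_inj e (h.trans (map_one _).symm))
      · exact Or.inr (pv_inj e h)
    set cv := MulAut.conj v
    have hinner : ∀ y ∈ X, y ∈ (MulAut.conj : J →* MulAut J).range → y = 1 ∨ y = cv := by
      rintro y hy ⟨l, rfl⟩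
      rcases hD l (hXD l hy) with rfl | rfl
      · exact Or.inl (map_one _)
      · exact Or.inr rfl
    obtain ⟨x, hx, hxo⟩ : ∃ x ∈ X, x ∉ (MulAut.conj : J →* MulAut J).range := by
      by_contra hno'
      push Not at hno'
      have h2 : Nat.card X ≤ 2 := by
        refine (Nat.card_le_card_of_injective (β := Bool) (fun y : X => decide (y.1 = cv)) ?_).trans (by simp)
        intro a b hab
        rcases hinner _ a.2 (hno' _ a.2) with ea | ea <;> rcases hinner _ b.2 (hno' _ b.2) with eb | eb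
        · exact Subtype.ext (ea.trans eb.symm)
        · exfalso
          simp only [ea, eb, decide_true] at hab
          exact hv1 (hci ((of_decide_eq_true hab).symm.trans (map_one _).symm))
        · exfalso
          simp only [ea, eb, decide_true] at hab
          exact hv1 (hci ((of_decide_eq_true hab.symm).symm.trans (map_one _).symm))
        · exact Subtype.ext (ea.trans eb.symm)
      omega
    have hfix : ∀ y ∈ X, y v = v := fun y hy => by
      rcases hD _ (hstab y hy v hvD) with h | h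
      · exact absurd (y.injective (h.trans (map_one y).symm)) hv1
      · exact h
    have hcomm_cv : ∀ y ∈ X, y * cv = cv * y := fun y hy => MulEquiv.ext fun l => by
      show y (v * l * v⁻¹) = v * y l * v⁻¹
      rw [map_mul, map_mul, map_inv, hfix y hy]
    have hX4 : ∀ y ∈ X, y = 1 ∨ y = cv ∨ y = x ∨ y = x * cv := fun y hy => by
      by_cases hyo : y ∈ (MulAut.conj : J →* MulAut J).range
      · rcases hinner y hy hyo with h | h
        · exact Or.inl h
        · exact Or.inr (Or.inl h)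
      · have hxy : x⁻¹ * y ∈ (MulAut.conj : J →* MulAut J).range := by
          obtain ⟨g, hg, hgM, -, rfl⟩ := hout hxo (hfix x hx)
          obtain ⟨g', hg', hgM', -, rfl⟩ := hout hyo (hfix y hy)
          rw [← map_inv, ← map_mul, inner_iff]
          exact mul_out (AA.inv_mem hg) (fun h => hgM (by simpa using MM.inv_mem h)) hg' hgM'
        rcases hinner _ (X.mul_mem (X.inv_mem hx) hy) hxy with h | h
        · exact Or.inr (Or.inr (Or.inl (inv_mul_eq_one.mp h).symm))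
        · exact Or.inr (Or.inr (Or.inr (by rw [← h, mul_inv_cancel_left])))
    have habel : ∀ t ∈ X, t * x = x * t := fun t ht => by
      rcases hX4 t ht with rfl | rfl | rfl | rfl
      · rw [one_mul, mul_one]
      · exact (hcomm_cv x hx).symm
      · rfl
      · rw [mul_assoc, ← hcomm_cv x hx]
    obtain ⟨g, hg, hgM, hgv, hgx⟩ := hout hxo (hfix x hx)
    obtain ⟨cp, hcp, hcp2, hne⟩ := hmove g hg hgM hgv
    obtain ⟨c, rfl⟩ := pv_surj e (mem_cen.mp hcp).1
    have hcv : c * v = v * c := (pv_mem_cen e).mp hcp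
    have hd : c * x c⁻¹ = v := by
      refine (hD _ (hcD c hcv x hx)).resolve_left fun h => hne ?_
      have h' : x c = c := by
        rw [map_inv, mul_inv_eq_one] at h; exact h.symm
      have := congrArg (pv e) h'
      rw [← hgx, pv_conjA] at this
      exact mul_inv_eq_iff_eq_mul.mp this
    have hconjx : MulAut.conj c * x * (MulAut.conj c)⁻¹ = cv * x := MulEquiv.ext fun l => by
      show c * x (c⁻¹ * l * c) * c⁻¹ = v * x l * v⁻¹
      rw [map_mul, map_mul, ← hd, map_inv]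
      group
    have hcvc : MulAut.conj c * cv * (MulAut.conj c)⁻¹ = cv := by
      rw [← map_inv, ← map_mul, ← map_mul, hcv, mul_inv_cancel_right]
    refine ⟨⟨c, hcv, two_el hcp2, fun y hy => ?_, fun t ht => ⟨x, hx, ?_⟩, x, hx, ?_⟩, fun a ha => ?_⟩
    · rcases hX4 y hy with rfl | rfl | rfl | rfl
      · simp only [mul_one, mul_inv_cancel]; exact X.one_mem
      · rw [hcvc]; exact hvX
      · rw [hconjx]; exact X.mul_mem hvX hx
      · rw [show MulAut.conj c * (x * cv) * (MulAut.conj c)⁻¹ =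
          MulAut.conj c * x * (MulAut.conj c)⁻¹ * (MulAut.conj c * cv * (MulAut.conj c)⁻¹) by group, hconjx, hcvc]
        exact X.mul_mem (X.mul_mem hvX hx) hvX
    · rw [hconjx, habel t ht, mul_inv_cancel_right]
      exact fun h => hv1 (hci ((mul_eq_right.mp h).trans (map_one _).symm))
    · rw [hd, orderOf_eq_prime (p := 2) (by rw [pow_two]; exact hv) hv1]
      exact even_two
    · by_cases hao : a ∈ (MulAut.conj : J →* MulAut J).range
      · obtain ⟨l, rfl⟩ := hao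
        exact ⟨1, X.one_mem, l, (one_mul _).symm⟩
      · obtain ⟨⟨ga, hga⟩, rfl⟩ := lift e a
        rw [inner_iff] at hao
        have hm : x⁻¹ * conjA e ⟨ga, hga⟩ ∈ (MulAut.conj : J →* MulAut J).range := by
          rw [← hgx, ← map_inv, ← map_mul, inner_iff]
          exact mul_out (AA.inv_mem hg) (fun h => hgM (by simpa using MM.inv_mem h)) hga hao
        obtain ⟨l, hl⟩ := hm
        exact ⟨x, hx, l, by rw [hl, mul_inv_cancel_left]⟩
  · have hc8 : Nat.card D = 8 := by rw [← card_img e]; exact h8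
    have hD2 : IsPGroup 2 ↥D := IsPGroup.of_card (n := 3) (by rw [hc8]; norm_num)
    have hXI : X.comap (MulAut.conj : J →* MulAut J) = D :=
      Subgroup.eq_of_le_of_card_ge (fun l hl => hXD l hl) (hmax D hD2 le_rfl)
    have hall : ∀ x ∈ X, ∃ d ∈ D, x = MulAut.conj d := by
      intro x hx
      by_contra hno'
      push Not at hno'
      have hxo : x ∉ (MulAut.conj : J →* MulAut J).range := by
        rintro ⟨l, rfl⟩
        exact hno' l (hXD l hx) rfl
      have hxv : x v = v := by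
        refine (hone _ (hstab x hx v hvD) (by rw [← map_mul, hv, map_one])).resolve_left fun h => hv1 ?_
        exact x.injective (h.trans (map_one x).symm)
      obtain ⟨g, hg, hgM, hgv, rfl⟩ := hout hxo hxv
      obtain ⟨_, ⟨d, hd, rfl⟩, hnd⟩ := hno g hg hgM hgv
      exact hnd ⟨_, hstab _ hx d hd, pv_conjA e ⟨g, hg⟩ d⟩
    have hDX : ∀ d ∈ D, MulAut.conj d ∈ X := fun d hd => (hXI.ge hd : d ∈ X.comap (MulAut.conj : J →* MulAut J))
    obtain ⟨c, rfl⟩ := pv_surj e (mem_cen.mp hcc).1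
    have hcv : c * v = v * c := (pv_mem_cen e).mp hcc
    refine ⟨⟨c, hcv, two_el hc2, fun x hx => ?_, fun t ht => ?_, ?_⟩, fun a ha => ?_⟩
    · obtain ⟨d, hd, rfl⟩ := hall x hx
      rw [← map_inv, ← map_mul, ← map_mul]
      exact hDX _ (hn c hcv d hd)
    · obtain ⟨d, hd, rfl⟩ := hall t ht
      obtain ⟨_, ⟨q, hq, rfl⟩, hne⟩ := hct _ ⟨d, hd, rfl⟩
      refine ⟨MulAut.conj q, hDX q hq, fun h => hne ?_⟩
      simp only [← map_inv, ← map_mul] at h
      simp only [← map_inv, ← map_mul, hci h]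
    · obtain ⟨q, hq, rfl⟩ := hq₀
      refine ⟨MulAut.conj q, hDX q hq, ?_⟩
      have hd : c * MulAut.conj q c⁻¹ ∈ D := hcD c hcv _ (hDX q hq)
      have hne1 : c * MulAut.conj q c⁻¹ ≠ 1 := fun h => hcq (by
        rw [MulAut.conj_apply] at h
        rw [← map_mul, ← map_mul]
        refine congrArg (pv e) ?_
        calc c * q = c * (q * c⁻¹ * q⁻¹) * (q * c) := by group
          _ = q * c := by rw [h, one_mul])
      obtain ⟨k, hk⟩ := IsPGroup.iff_orderOf.mp hD2 ⟨_, hd⟩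
      rw [Subgroup.orderOf_mk] at hk
      rw [hk, Nat.even_pow]
      refine ⟨even_two, fun h => hne1 (orderOf_eq_one_iff.mp ?_)⟩
      rw [hk, h, pow_zero]
    · refine ⟨1, X.one_mem, ?_⟩
      simp only [one_mul]
      by_contra hno'
      push Not at hno'
      have hao : a ∉ (MulAut.conj : J →* MulAut J).range := fun ⟨l, hl⟩ => hno' l hl.symm
      have hfix : ∀ d ∈ D, a d = d := fun d hd => hci (by
        refine MulEquiv.ext fun l => ?_
        obtain ⟨m, rfl⟩ := a.surjective l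
        have := congrArg (fun f : MulAut J => f m) (ha _ (hDX d hd))
        simp only [MulAut.mul_apply, MulAut.conj_apply, map_mul, map_inv] at this
        simpa only [MulAut.conj_apply] using this)
      obtain ⟨g, hg, hgM, hgv, rfl⟩ := hout hao (hfix v hvD)
      obtain ⟨_, ⟨d, hd, rfl⟩, hnd⟩ := hno g hg hgM hgv
      refine hnd ⟨d, hd, ?_⟩
      rw [← pv_conjA e ⟨g, hg⟩ d, hfix d hd]

/-- The facts for M12. -/
theorem autFacts : StdM12.AutFacts J := by
  haveI : IsSimpleGroup ↥MM := CfsgGolay.isSimple_M12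
  haveI : Finite J := Finite.of_equiv _ e.symm.toEquiv
  refine ⟨e.isSimpleGroup, conj_injective e, ?_, fun a b ha hb => ?_,
    fun u v hu hu1 hv hv1 huv => maximal_J e hu hu1 hv hv1 huv, quad_J e, big_J e⟩
  · haveI : Fact (Nat.Prime 2) := ⟨Nat.prime_two⟩
    obtain ⟨S, hS⟩ := Sylow.exists_subgroup_card_pow_prime (G := J) 2 (n := 5) (by
      rw [Nat.card_congr e.toEquiv, card_MM]; norm_num)
    exact ⟨S, IsPGroup.of_card hS, by rw [hS]; norm_num⟩
  · obtain ⟨⟨g, hg⟩, rfl⟩ := lift e a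
    obtain ⟨⟨g', hg'⟩, rfl⟩ := lift e b
    rw [inner_iff] at ha hb
    rw [← map_mul, inner_iff]
    exact mul_out hg ha hg' hb

end

/-- The facts for any group isomorphic to M12. -/
theorem autFacts_M12 {J : Type u} [Group J] (e : J ≃* ↥Cfsg.Spor.M12) : StdM12.AutFacts J :=
  autFacts (e.trans (MulEquiv.subgroupCongr mm_eq))

end CfsgLib.StdM12.Model
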