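import Cfsg.Agent.Lib.StdM12.Model.AutFacts

/-!
The Sylow subgroup of M12 with its central involution (`StdM12.CentFacts`).
-/

set_option autoImplicit false
set_option linter.style.haveILetI false

namespace CfsgLib.StdM12.Model

open CfsgGolay Data Cfsg
open Equiv (Perm)

universe u

theorem exists_sylow : ∃ S : Subgroup (Perm GolayPt), S ≤ AA ∧ Nat.card S = 128 ∧
    (∀ g ∈ S, g * rep 1 = rep 1 * g) ∧ rep 1 ∈ S ∧
    (∃ b ∈ S, b ∉ MM ∧ b * b = 1) ∧
    ∀ g ∈ AA, (∀ x ∈ S, x ∈ MM → g * x = x * g) → g = 1 ∨ g = rep 1 := by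
  classical
  obtain ⟨S, hSA, hcard, hlist⟩ := exists_sylow_list
  obtain ⟨hcomm, hv, hout, hcent, -⟩ := sylow_cent_ok
  obtain ⟨-, -, hlen, -⟩ := syl_ok
  simp only [List.all_eq_true] at hcomm
  simp only [Bool.and_eq_true, Nat.blt_eq] at hout
  obtain ⟨⟨ho, hlt⟩, hsq⟩ := hout
  have hrc := (rep_spec (show 1 < 3 by norm_num)).2.1
  have hall : ∀ i < 128, ∃ g ∈ S, code g = syl.getD i 0 := by
    have hinj : Function.Injective (fun g : S => (⟨(hlist g g.2).choose, (hlist g g.2).choose_spec.1⟩ : Fin 128)) := by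
      intro a b e
      have e' : (hlist a a.2).choose = (hlist b b.2).choose := congrArg Fin.val e
      exact Subtype.ext (code_inj (by rw [(hlist a a.2).choose_spec.2, (hlist b b.2).choose_spec.2, e']))
    have hb := hinj.bijective_of_nat_card_le (by rw [Nat.card_fin, hcard])
    intro i hi
    obtain ⟨g, hg⟩ := hb.2 ⟨i, hi⟩
    refine ⟨g, g.2, ?_⟩
    rw [(hlist g g.2).choose_spec.2]
    exact congrArg (fun j : Fin 128 => syl.getD j 0) hg
  refine ⟨S, hSA, hcard, fun g hg => ?_, ?_, ?_, fun g hg h => ?_⟩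
  · obtain ⟨i, hi, e⟩ := hlist g hg
    have hi' : i < syl.length := by rw [hlen]; exact hi
    exact code_inj (by rw [code_mul, code_mul, e, hrc]; exact Nat.eq_of_beq_eq_true (hcomm _ (getD_mem hi')))
  · obtain ⟨i, hi, e⟩ := exists_pos hv
    rw [hlen] at hi
    obtain ⟨g, hg, hgc⟩ := hall i hi
    rwa [show rep 1 = g from code_inj (by rw [hrc, hgc, e])]
  · obtain ⟨b, hb, hbc⟩ := hall _ hlt
    refine ⟨b, hb, fun hm => ?_, code_inj (by rw [code_mul, code_one, hbc]; exact Nat.eq_of_beq_eq_true hsq)⟩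
    obtain ⟨b', -, hb', hb'c⟩ := exists_of_isOut ho
    exact hb' ((code_inj (hb'c.trans hbc.symm)) ▸ hm)
  · have hsi : ∀ c ∈ sylI0, ∃ x ∈ S, x ∈ MM ∧ code x = c := by
      intro c hc
      obtain ⟨hc, hin⟩ := List.mem_filter.mp hc
      obtain ⟨i, hi, rfl⟩ := List.mem_iff_getElem.mp hc
      rw [hlen] at hi
      obtain ⟨x, hx, hxc⟩ := hall i hi
      rw [List.getD_eq_getElem _ _ (by rw [hlen]; exact hi)] at hxc
      obtain ⟨m, hm, hmc⟩ := exists_of_inM hin
      exact ⟨x, hx, (code_inj (hmc.trans hxc.symm)) ▸ hm, hxc⟩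
    have hr : g * rep 1 = rep 1 * g := by
      obtain ⟨-, hrc', -, -, hrM, -⟩ := rep_spec (show 1 < 3 by norm_num)
      obtain ⟨i, hi, e⟩ := exists_pos hv
      obtain ⟨x, hx, hxc⟩ := hall i (by rw [← hlen]; exact hi)
      have hx1 : x = rep 1 := code_inj (by rw [hxc, e, hrc'])
      exact h _ (hx1 ▸ hx) (hrM (by norm_num))
    have hmem : code g ∈ centB ++ centB.map (pcomp (outL.getD 1 0)) := by
      by_cases hgM : g ∈ MM
      · exact List.mem_append.mpr (Or.inl (cen_code clsB' (mem_cen.mpr ⟨hgM, hr⟩)))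
      · obtain ⟨h₀, z, hh₀, hz, rfl⟩ := outer_split (by norm_num) hg hgM hr
        refine List.mem_append.mpr (Or.inr ?_)
        rw [code_mul, hh₀]
        exact List.mem_map_of_mem (cen_code clsB' hz)
    simp only [List.all_eq_true, List.any_eq_true, Bool.or_eq_true, Bool.not_eq_true'] at hcent
    rcases hcent _ hmem with (e | e) | ⟨c, hc, e⟩
    · exact Or.inl (code_inj (by rw [code_one]; exact Nat.eq_of_beq_eq_true e))
    · exact Or.inr (code_inj (by rw [hrc]; exact Nat.eq_of_beq_eq_true e))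
    · exfalso
      obtain ⟨x, hx, hxM, hxc⟩ := hsi c hc
      refine beq_false e ?_
      rw [← hxc, ← code_mul, ← code_mul, h x hx hxM]

/-- The Sylow subgroup of a given conjugate of the central involution. -/
theorem centFacts_of {J : Type u} [Group J] (e : J ≃* ↥MM) {t : J} (ht : pv e t = rep 1) :
    ∃ SJ : Subgroup J, StdM12.CentFacts SJ t := by
  classical
  haveI : Fact (Nat.Prime 2) := ⟨Nat.prime_two⟩
  haveI : Finite J := Finite.of_equiv _ e.symm.toEquiv
  obtain ⟨S, hSA, hcard, hScomm, hrS, ⟨b₀, hb₀S, hb₀M, hb₀2⟩, hcentS⟩ := exists_sylow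
  obtain ⟨-, hrc, hr2, hr1, hrM, -⟩ := rep_spec (show 1 < 3 by norm_num)
  set SJ := S.comap (pv e) with hSJ
  have hmemS : ∀ {l : J}, l ∈ SJ ↔ pv e l ∈ S := Iff.rfl
  have himg : img e SJ = S ⊓ MM := by
    refine le_antisymm (fun x hx => ?_) fun x hx => ?_
    · obtain ⟨l, hl, rfl⟩ := hx
      exact ⟨hl, pv_mem e l⟩
    · obtain ⟨l, rfl⟩ := pv_surj e hx.2
      exact ⟨l, hx.1, rfl⟩
  have h64 : Nat.card SJ = 64 := by
    have h2 : (MM.subgroupOf S).index = 2 := by
      rw [Subgroup.index_eq_two_iff]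
      refine ⟨⟨b₀, hb₀S⟩, fun b => ?_⟩
      show (b : Perm GolayPt) * b₀ ∈ MM ∧ ¬ (b : Perm GolayPt) ∈ MM ∨ (b : Perm GolayPt) ∈ MM ∧ ¬ (b : Perm GolayPt) * b₀ ∈ MM
      by_cases hb : (b : Perm GolayPt) ∈ MM
      · refine Or.inr ⟨hb, fun h => hb₀M ?_⟩
        have := MM.mul_mem (MM.inv_mem hb) h
        rwa [inv_mul_cancel_left] at this
      · exact Or.inl ⟨mul_out (hSA b.2) hb (hSA hb₀S) hb₀M, hb⟩
    have h := Subgroup.card_mul_index (MM.subgroupOf S)
    rw [h2, hcard, ← Subgroup.inf_subgroupOf_right, Nat.card_congr (Subgroup.subgroupOfEquivOfLe inf_le_right).toEquiv,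
      inf_comm, ← himg, card_img] at h
    omega
  have h2SJ : IsPGroup 2 ↥SJ := IsPGroup.of_card (n := 6) (by rw [h64]; norm_num)
  have ht2 : t * t = 1 := pv_inj e (by rw [map_mul, ht, hr2, map_one])
  have ht1 : t ≠ 1 := fun h => hr1 (by rw [← ht, h, map_one])
  have htS : t ∈ SJ := hmemS.mpr (ht ▸ hrS)
  refine ⟨SJ, h2SJ, fun U hU hle => ?_, htS, ht2, ht1, ?_, fun a ha => ?_, fun x hx4 hx2 => ?_,
    fun D hD hDt hDn d hd => ?_, fun U hU hle a haU hao => ?_⟩
  · obtain ⟨k, hk⟩ := IsPGroup.iff_card.mp hU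
    have hdvd : 2 ^ k ∣ 95040 := by rw [← hk, ← card_MM, ← Nat.card_congr e.toEquiv]; exact Subgroup.card_subgroup_dvd_card U
    have hk6 : k ≤ 6 := by
      by_contra hgt
      have : 2 ^ 7 ∣ 95040 := (pow_dvd_pow 2 (by omega : 7 ≤ k)).trans hdvd
      norm_num at this
    refine (Subgroup.eq_of_le_of_card_ge hle ?_).ge
    rw [h64, hk]
    calc 2 ^ k ≤ 2 ^ 6 := Nat.pow_le_pow_right (by norm_num) hk6
      _ = 64 := by norm_num
  · obtain ⟨hd, -⟩ := derived_ok
    simp only [Bool.and_eq_true, Nat.blt_eq] at hd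
    obtain ⟨⟨h0, h1⟩, heq⟩ := hd
    obtain ⟨a, ha, hac, har⟩ := clsB'.mem (cT.getD 0 0) (by rw [centB_ok.2.2]; exact h0)
    obtain ⟨b, hb, hbc, hbr⟩ := clsB'.mem (cT.getD 1 0) (by rw [centB_ok.2.2]; exact h1)
    obtain ⟨a', rfl⟩ := pv_surj e ha
    obtain ⟨b', rfl⟩ := pv_surj e hb
    rw [← ht, ← map_mul, ← map_mul] at har hbr
    have hmem : ∀ {y : J}, y * t = t * y → y ∈ Subgroup.centralizer ({t} : Set J) :=
      fun h => Subgroup.mem_centralizer_singleton_iff.mpr h
    have h := Subgroup.commutator_mem_commutator (hmem (pv_inj e har)) (hmem (pv_inj e hbr))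
    convert h using 1
    refine pv_inj e (code_inj ?_)
    rw [ht, hrc, commutatorElement_def, mul_assoc (a' * b') a'⁻¹ b'⁻¹]
    simp only [map_mul, map_inv, code_mul, code_inv, hac, hbc]
    exact (Nat.eq_of_beq_eq_true heq).symm
  · obtain ⟨⟨g, hg⟩, rfl⟩ := lift e a
    rcases hcentS g hg (fun x hx hxM => by
      obtain ⟨l, rfl⟩ := pv_surj e hxM
      have := congrArg (pv e) (ha l (hmemS.mpr hx))
      rw [pv_conjA] at this
      exact mul_inv_eq_iff_eq_mul.mp this) with h | h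
    · left; rw [show (⟨g, hg⟩ : ↥AA) = 1 from Subtype.ext h, map_one]
    · right; rw [← conjA_pv e t]; exact congrArg (conjA e) (Subtype.ext (h.trans ht.symm))
  · obtain ⟨k, hk, g, hg, hgx⟩ := inner_class (pv_mem e (x * x)) (by rw [← map_mul, hx4, map_one])
      (fun h => hx2 (pv_inj e (h.trans (map_one _).symm)))
    interval_cases k
    · exfalso
      obtain ⟨-, hr0c, -⟩ := rep_spec (show 0 < 3 by norm_num)
      set y := g⁻¹ * pv e x * g
      have hy2 : y * y = rep 0 := by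
        rw [show rep 0 = g⁻¹ * pv e (x * x) * g by rw [← hgx]; group, map_mul]; simp only [y]; group
      have hy : y ∈ cen (rep 0) := mem_cen.mpr ⟨MM.mul_mem (MM.mul_mem (MM.inv_mem hg) (pv_mem e x)) hg,
        by show y * rep 0 = rep 0 * y; rw [← hy2]; exact (mul_assoc y y y).symm⟩
      obtain ⟨-, -, -, -, hsq⟩ := sylow_cent_ok
      simp only [List.all_eq_true, Bool.not_eq_true'] at hsq
      refine beq_false (hsq _ (cen_code clsA' hy)) ?_
      rw [← code_mul, hy2, hr0c]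
    · obtain ⟨c, hc⟩ := pv_surj e hg
      refine ⟨c⁻¹, pv_inj e ?_⟩
      simp only [map_mul, map_inv, inv_inv, hc, ht]
      rw [← map_mul, ← hgx]
      group
  · have hdc : pv e d ∈ cen (rep 1) := by rw [← ht]; exact (pv_mem_cen e).mpr (hDt d hd)
    have hodd : ∀ {y : J}, y ∈ D → y * y * (y * y) = 1 → y = 1 := fun {y} hy h4 => by
      refine orderOf_eq_one_iff.mp (Nat.eq_one_of_dvd_coprimes
        (Nat.Coprime.pow_right 2 (Nat.coprime_two_right.mpr hD)) ?_
        (orderOf_dvd_of_pow_eq_one (n := 2 ^ 2) ?_))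
      · exact Subgroup.orderOf_dvd_natCard D hy
      · rw [show (2 : ℕ) ^ 2 = 2 * 2 from rfl, pow_mul, pow_two, pow_two]; exact h4
    have hm := wit_spec clsB' hrc witB_ok (D := img e D) (fun z hz hz2 => by
      obtain ⟨y, hy, rfl⟩ := hz
      rw [← map_mul] at hz2
      have h2 : y * y = 1 := pv_inj e (hz2.trans (map_one _).symm)
      exact Or.inl (by rw [hodd hy (by rw [h2, mul_one]), map_one]))
      (fun c hc z hz => by
        obtain ⟨y, hy, rfl⟩ := hz
        obtain ⟨c, rfl⟩ := pv_surj e (mem_cen.mp hc).1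
        rw [← ht] at hc
        exact ⟨_, hDn c ((pv_mem_cen e).mp hc) y hy, by rw [map_mul, map_mul, map_inv]⟩)
      ⟨d, hd, rfl⟩ hdc
    have h4 := derived_ok.2
    simp only [List.all_eq_true] at h4
    refine hodd hd (pv_inj e (code_inj ?_))
    simp only [map_mul, map_one, code_mul, code_one]
    exact Nat.eq_of_beq_eq_true (h4 _ hm)
  · let U' : Subgroup (Perm GolayPt) := (U.comap (conjA e)).map AA.subtype
    have hU'A : U' ≤ AA := Subgroup.map_subtype_le _
    have hcardU : Nat.card U' = Nat.card U := by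
      rw [Subgroup.card_map_of_injective AA.subtype_injective]
      refine Nat.card_congr (Equiv.ofBijective (fun y : U.comap (conjA e) => (⟨conjA e y, y.2⟩ : U)) ⟨?_, ?_⟩)
      · exact fun a b h => Subtype.ext (conjA_inj e (congrArg Subtype.val h))
      · rintro ⟨y, hy⟩
        obtain ⟨g, rfl⟩ := lift e y
        exact ⟨⟨g, hy⟩, rfl⟩
    obtain ⟨k, hk⟩ := IsPGroup.iff_card.mp hU
    have hU'2 : IsPGroup 2 ↥U' := IsPGroup.of_card (hcardU.trans hk)
    have hbig : 128 ≤ Nat.card U := by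
      have hle' : SJ.map (MulAut.conj : J →* MulAut J) < U := lt_of_le_of_ne hle fun h => hao (by
        rw [← h] at haU
        obtain ⟨l, -, e'⟩ := haU
        exact ⟨l, e'⟩)
      have h1 : Nat.card (SJ.map (MulAut.conj : J →* MulAut J)) = 64 := by
        rw [Subgroup.card_map_of_injective (conj_injective e), h64]
      have h2 := Subgroup.card_dvd_of_le hle'.le
      rw [h1, hk] at h2
      have h3 : Nat.card U ≠ 64 := fun h => hle'.ne (Subgroup.eq_of_le_of_card_ge hle (by rw [h1, h]))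
      obtain ⟨q, hq⟩ := h2
      rw [hk] at h3 ⊢
      have : 0 < q := Nat.pos_of_ne_zero fun h => by rw [h, mul_zero] at hq; exact absurd hq (by positivity)
      omega
    let P : Sylow 2 AA := Sylow.ofCard (S.subgroupOf AA) (by
      rw [Nat.card_congr (Subgroup.subgroupOfEquivOfLe hSA).toEquiv, hcard, card_AA,
        show (190080 : ℕ) = 2 ^ 7 * 1485 by norm_num, Nat.factorization_mul (by norm_num) (by norm_num),
        Nat.Prime.factorization_pow Nat.prime_two]
      simp [Nat.factorization_eq_zero_of_not_dvd (by norm_num : ¬ 2 ∣ 1485)])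
    obtain ⟨Q, hQ⟩ := (hU'2.of_equiv (Subgroup.subgroupOfEquivOfLe hU'A).symm).exists_le_sylow
    obtain ⟨g, hg⟩ := MulAction.exists_smul_eq AA Q P
    have hin : ∀ y ∈ U', (g : Perm GolayPt) * y * (g : Perm GolayPt)⁻¹ ∈ S := fun y hy => by
      have h1 : g * ⟨y, hU'A hy⟩ * g⁻¹ ∈ ((P : Sylow 2 AA) : Subgroup AA) := by
        rw [← hg, Sylow.coe_subgroup_smul]
        exact Subgroup.smul_mem_pointwise_smul (⟨y, hU'A hy⟩ : AA) (MulAut.conj g) _
          (hQ (show (⟨y, hU'A hy⟩ : AA) ∈ U'.subgroupOf AA from hy))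
      exact h1
    have heq : U'.map (MulAut.conj (g : Perm GolayPt)).toMonoidHom = S := by
      refine Subgroup.eq_of_le_of_card_ge ?_ ?_
      · rintro _ ⟨y, hy, rfl⟩; exact hin y hy
      · rw [Subgroup.card_map_of_injective (MulAut.conj (g : Perm GolayPt)).injective, hcard, hcardU]; exact hbig
    obtain ⟨y, hy, ey⟩ : b₀ ∈ U'.map (MulAut.conj (g : Perm GolayPt)).toMonoidHom := by rw [heq]; exact hb₀S
    obtain ⟨w, hw, rfl⟩ := hy
    refine ⟨conjA e w, hw, fun h => hb₀M ?_, ?_⟩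
    · rw [inner_iff] at h
      rw [← ey]
      exact AA_norm g.2 h
    · rw [← map_mul, ← map_one (conjA e)]
      refine congrArg (conjA e) (Subtype.ext ?_)
      show (w : Perm GolayPt) * w = 1
      have h' : (g : Perm GolayPt) * w * (g : Perm GolayPt)⁻¹ = b₀ := ey
      rw [show (w : Perm GolayPt) = (g : Perm GolayPt)⁻¹ * b₀ * g by rw [← h']; group]
      calc (g : Perm GolayPt)⁻¹ * b₀ * g * ((g : Perm GolayPt)⁻¹ * b₀ * g)
          = (g : Perm GolayPt)⁻¹ * (b₀ * b₀) * g := by group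
        _ = 1 := by rw [hb₀2]; group

/-- The Sylow subgroup with its central involution for any group isomorphic to M12. -/
theorem centFacts {J : Type u} [Group J] (e : J ≃* ↥MM) :
    ∃ (SJ : Subgroup J) (t : J), StdM12.CentFacts SJ t := by
  obtain ⟨t, ht⟩ := pv_surj e ((rep_spec (show 1 < 3 by norm_num)).2.2.2.2.1 (by norm_num))
  obtain ⟨SJ, h⟩ := centFacts_of e ht
  exact ⟨SJ, t, h⟩

/-- The same for the Prelude's M12. -/
theorem centFacts_M12 {J : Type u} [Group J] (e : J ≃* ↥Cfsg.Spor.M12) :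
    ∃ (SJ : Subgroup J) (t : J), StdM12.CentFacts SJ t :=
  centFacts (e.trans (MulEquiv.subgroupCongr mm_eq))

end CfsgLib.StdM12.Model
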