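import Cfsg.Agent.Lib.StdM12.Model.Code

/-!
The finite checks on the generated data.
-/

set_option autoImplicit false

namespace CfsgLib.StdM12.Model

open CfsgGolay Data

/-- A conjugate, on codes. -/
def pconj (g x : ℕ) : ℕ := pcomp (pcomp g x) (pinv g)

/-- A table of elements reached from a root by left multiplication with generators. -/
def tableB (gs : List ℕ) (L : List ℕ) (P : List (ℕ × ℕ × ℕ)) : Bool :=
  Nat.beq P.length L.length && (List.range L.length).all fun i =>
    (Nat.beq (P.getD i (0, 0, 0)).2.2 0 && Nat.beq (L.getD i 0) pid) ||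
      (Nat.blt (P.getD i (0, 0, 0)).1 L.length && Nat.blt (P.getD i (0, 0, 0)).2.1 gs.length &&
        Nat.blt (P.getD (P.getD i (0, 0, 0)).1 (0, 0, 0)).2.2 (P.getD i (0, 0, 0)).2.2 &&
        Nat.beq (L.getD i 0) (pcomp (gs.getD (P.getD i (0, 0, 0)).2.1 0) (L.getD (P.getD i (0, 0, 0)).1 0)))

/-- A table of conjugates of a root. -/
def classB (r : ℕ) (L : List ℕ) (P : List (ℕ × ℕ × ℕ)) : Bool :=
  Nat.beq P.length L.length && (List.range L.length).all fun i =>
    (Nat.beq (P.getD i (0, 0, 0)).2.2 0 && Nat.beq (L.getD i 0) r) ||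
      (Nat.blt (P.getD i (0, 0, 0)).1 L.length && Nat.blt (P.getD i (0, 0, 0)).2.1 genL.length &&
        Nat.blt (P.getD (P.getD i (0, 0, 0)).1 (0, 0, 0)).2.2 (P.getD i (0, 0, 0)).2.2 &&
        Nat.beq (L.getD i 0) (pconj (genL.getD (P.getD i (0, 0, 0)).2.1 0) (L.getD (P.getD i (0, 0, 0)).1 0)))

/-- Strictly increasing. -/
def incB : List ℕ → Bool
  | [] => true
  | [_] => true
  | a :: b :: l => Nat.blt a b && incB (b :: l)

/-- The product of a word, on codes. -/
def wordC (gs : List ℕ) : List ℕ → ℕ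
  | [] => pid
  | a :: w => pcomp (gs.getD a 0) (wordC gs w)

/-- The forest of suborbits. -/
def forestB (r : ℕ) (cg L : List ℕ) (F : List (ℕ × ℕ × ℕ)) (sub : List (ℕ × List (List ℕ))) : Bool :=
  Nat.beq F.length L.length && (List.range L.length).all fun i =>
    Nat.beq (L.getD i 0) r ||
      (Nat.beq (F.getD i (0, 0, 0)).2.2 0 && Nat.blt (F.getD i (0, 0, 0)).1 sub.length &&
        Nat.beq (pcomp (L.getD i 0) (sub.getD (F.getD i (0, 0, 0)).1 (0, [])).1)
          (pcomp (sub.getD (F.getD i (0, 0, 0)).1 (0, [])).1 r)) ||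
      (Nat.blt (F.getD i (0, 0, 0)).1 L.length && Nat.blt (F.getD i (0, 0, 0)).2.1 cg.length &&
        Nat.blt (F.getD (F.getD i (0, 0, 0)).1 (0, 0, 0)).2.2 (F.getD i (0, 0, 0)).2.2 &&
        !Nat.beq (L.getD (F.getD i (0, 0, 0)).1 0) r &&
        Nat.beq (pcomp (L.getD i 0) (cg.getD (F.getD i (0, 0, 0)).2.1 0))
          (pcomp (cg.getD (F.getD i (0, 0, 0)).2.1 0) (L.getD (F.getD i (0, 0, 0)).1 0)))

/-- The words of a suborbit give the generators. -/
def subB (cg : List ℕ) (e : ℕ × List (List ℕ)) : Bool :=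
  inM e.1 && Nat.beq e.2.length 3 && (List.range 3).all fun a =>
    (e.2.getD a []).all (fun j => Nat.blt j (cg.length + 1)) &&
      Nat.beq (wordC (cg ++ [e.1]) (e.2.getD a [])) (genL.getD a 0)

/-- The product of conjugates given by positions. -/
def witC (C : List ℕ) (d : ℕ) : List ℕ → ℕ
  | [] => pid
  | j :: w => pcomp (pconj (C.getD j 0) d) (witC C d w)

/-- A witness for a second involution, or membership in the allowed list. -/
def witB (v : ℕ) (C : List ℕ) (W : List (List ℕ)) (ok : List ℕ) : Bool :=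
  (List.range C.length).all fun i =>
    ok.any (Nat.beq (C.getD i 0)) ||
      ((W.getD i []).all (fun j => Nat.blt j C.length) &&
        Nat.beq (pcomp (witC C (C.getD i 0) (W.getD i [])) (witC C (C.getD i 0) (W.getD i []))) pid &&
        !Nat.beq (witC C (C.getD i 0) (W.getD i [])) pid && !Nat.beq (witC C (C.getD i 0) (W.getD i [])) v)

theorem gen_ok : genL = Out23.cB :: OutM12.gens.map Prod.fst ∧ genL.all inM = true := by decide +kernel

theorem rep_ok : inM (repL.getD 0 0) = true ∧ inM (repL.getD 1 0) = true ∧ isOut (repL.getD 2 0) = true ∧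
    (List.range 3).all (fun k => Nat.beq (pcomp (repL.getD k 0) (repL.getD k 0)) pid && !Nat.beq (repL.getD k 0) pid &&
      isOut (outL.getD k 0) && Nat.beq (pcomp (outL.getD k 0) (repL.getD k 0)) (pcomp (repL.getD k 0) (outL.getD k 0)) &&
      (cgL.getD k []).all fun g => inM g && Nat.beq (pcomp g (repL.getD k 0)) (pcomp (repL.getD k 0) g)) = true := by
  decide +kernel

theorem centA_ok : tableB (cgL.getD 0 []) centA centPA = true ∧ incB centA = true ∧ centA.length = 240 := by
  decide +kernel

theorem centB_ok : tableB (cgL.getD 1 []) centB centPB = true ∧ incB centB = true ∧ centB.length = 192 := by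
  decide +kernel

theorem centC_ok : tableB (cgL.getD 2 []) centC centPC = true ∧ incB centC = true ∧ centC.length = 120 := by
  decide +kernel

theorem clsA_ok : classB (repL.getD 0 0) clsA clsPA = true ∧ incB clsA = true ∧ clsA.length = 396 := by
  decide +kernel

theorem clsB_ok : classB (repL.getD 1 0) clsB clsPB = true ∧ incB clsB = true ∧ clsB.length = 495 := by
  decide +kernel

theorem clsC_ok : classB (repL.getD 2 0) clsC clsPC = true ∧ incB clsC = true ∧ clsC.length = 792 := by
  decide +kernel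

theorem forA_ok : forestB (repL.getD 0 0) (cgL.getD 0 []) clsA forA subA = true ∧
    subA.all (subB (cgL.getD 0 [])) = true := by decide +kernel

theorem forB_ok : forestB (repL.getD 1 0) (cgL.getD 1 []) clsB forB Data.subB = true ∧
    Data.subB.all (Model.subB (cgL.getD 1 [])) = true := by decide +kernel

theorem witA_ok : witB (repL.getD 0 0) centA witA [pid, repL.getD 0 0] = true := by decide +kernel

theorem witB_ok : Model.witB (repL.getD 1 0) centB Data.witB (qA ++ qB) = true := by decide +kernel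

/-- The centre of a centraliser is generated by the representative. -/
def centreB (r : ℕ) (cg C : List ℕ) : Bool :=
  C.all fun z => Nat.beq z pid || Nat.beq z r || cg.any fun g => !Nat.beq (pcomp z g) (pcomp g z)

theorem centre_ok : centreB (repL.getD 0 0) (cgL.getD 0 []) centA = true ∧
    centreB (repL.getD 1 0) (cgL.getD 1 []) centB = true := by decide +kernel

/-- The outer centraliser moves a two-generator. -/
def moveB (h : ℕ) (cg C : List ℕ) : Bool :=
  (cg.all fun g => Nat.beq (pcomp (pcomp (pcomp g g) (pcomp g g)) (pcomp (pcomp g g) (pcomp g g))) pid ||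
      Nat.beq (pcomp (pcomp (pcomp (pcomp g g) (pcomp g g)) (pcomp (pcomp g g) (pcomp g g)))
        (pcomp (pcomp (pcomp g g) (pcomp g g)) (pcomp (pcomp g g) (pcomp g g)))) pid) &&
    C.all fun z => cg.any fun g => !Nat.beq (pcomp (pcomp h z) g) (pcomp g (pcomp h z))

theorem move_ok : moveB (outL.getD 0 0) (cgL.getD 0 []) centA = true ∧
    moveB (outL.getD 1 0) (cgL.getD 1 []) centB = true := by decide +kernel

/-- The checks on a quaternion subgroup and its partner. -/
def quatB (Q Q' : List ℕ) : Bool :=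
  Nat.beq Q.length 8 && incB Q && Q.any (Nat.beq pid) && Q.any (Nat.beq (repL.getD 1 0)) &&
    Q.all (fun a => centB.any (Nat.beq a) && (Nat.beq a pid || Nat.beq a (repL.getD 1 0) ||
      Q.all fun b => Nat.beq b pid || Nat.beq b (repL.getD 1 0) ||
        centB.any fun c => Nat.beq (pcomp c a) (pcomp b c))) &&
    Q.all (fun a => Nat.beq a pid || Nat.beq a (repL.getD 1 0) || Q'.all fun b =>
      Nat.beq b pid || Nat.beq b (repL.getD 1 0) || (Nat.beq (pcomp (pcomp a b) (pcomp a b)) pid &&
        !Nat.beq (pcomp a b) pid && !Nat.beq (pcomp a b) (repL.getD 1 0))) &&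
    centB.all (fun z => Q.any fun a =>
      !(Q.any fun b => Nat.beq (pcomp (pcomp (outL.getD 1 0) z) a) (pcomp b (pcomp (outL.getD 1 0) z)))) &&
    (cgL.getD 1 []).any fun c => (Q.all fun t => Q.any fun q => !Nat.beq (pconj c q) (pconj t q)) &&
      Q.any fun q => !Nat.beq (pcomp c q) (pcomp q c)

theorem quat_ok : quatB qA qB = true ∧ quatB qB qA = true := by decide +kernel

theorem syl_ok : tableB sylG syl sylP = true ∧ incB syl = true ∧ syl.length = 128 ∧
    sylG.all (fun g => inM g || isOut g) = true ∧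
    (sylG.all fun g => syl.all fun x => syl.any (Nat.beq (pcomp g x))) = true ∧
    (List.range 128).all (fun i => Nat.beq (syl.getD i 0) pid || !Nat.beq (pcomp (syl.getD i 0) (syl.getD i 0)) pid ||
      (match (sylI.getD i (3, 0)).1 with
        | 0 => Nat.blt (sylI.getD i (3, 0)).2 396 && Nat.beq (clsA.getD (sylI.getD i (3, 0)).2 0) (syl.getD i 0)
        | 1 => Nat.blt (sylI.getD i (3, 0)).2 495 && Nat.beq (clsB.getD (sylI.getD i (3, 0)).2 0) (syl.getD i 0)
        | 2 => Nat.blt (sylI.getD i (3, 0)).2 792 && Nat.beq (clsC.getD (sylI.getD i (3, 0)).2 0) (syl.getD i 0)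
        | _ => false)) = true := by decide +kernel

theorem t_ok : tT.length = 8 ∧ incB tT = true ∧ tT.all (fun a => centC.any (Nat.beq a) &&
      Nat.beq (pcomp a a) pid && tT.all fun b => tT.any (Nat.beq (pcomp a b))) = true ∧
    tT.any (Nat.beq pid) = true ∧ tQ.length = 3 ∧
    tQ.all (fun e => tT.any (Nat.beq e.1) && !Nat.beq e.1 pid && Nat.blt e.2 792 &&
      Nat.beq (clsC.getD e.2 0) (pcomp (repL.getD 2 0) e.1)) = true ∧
    Nat.beq (pcomp (tQ.getD 0 (0, 0)).1 (tQ.getD 1 (0, 0)).1) (tQ.getD 2 (0, 0)).1 = true ∧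
    Nat.beq (tQ.getD 0 (0, 0)).1 (tQ.getD 1 (0, 0)).1 = false := by decide +kernel

/-- The inner part of the Sylow subgroup. -/
def sylI0 : List ℕ := syl.filter fun x => inM x

theorem sylow_cent_ok : syl.all (fun x => Nat.beq (pcomp x (repL.getD 1 0)) (pcomp (repL.getD 1 0) x)) = true ∧
    syl.any (Nat.beq (repL.getD 1 0)) = true ∧
    (isOut (syl.getD sOut 0) && Nat.blt sOut 128 &&
      Nat.beq (pcomp (syl.getD sOut 0) (syl.getD sOut 0)) pid) = true ∧
    (centB ++ centB.map (pcomp (outL.getD 1 0))).all (fun z => Nat.beq z pid || Nat.beq z (repL.getD 1 0) ||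
      sylI0.any fun x => !Nat.beq (pcomp z x) (pcomp x z)) = true ∧
    centA.all (fun x => !Nat.beq (pcomp x x) (repL.getD 0 0)) = true := by decide +kernel

theorem derived_ok : (Nat.blt (cT.getD 0 0) 192 && Nat.blt (cT.getD 1 0) 192 &&
    Nat.beq (pcomp (pcomp (centB.getD (cT.getD 0 0) 0) (centB.getD (cT.getD 1 0) 0))
      (pcomp (pinv (centB.getD (cT.getD 0 0) 0)) (pinv (centB.getD (cT.getD 1 0) 0)))) (repL.getD 1 0)) = true ∧
    (qA ++ qB).all (fun d => Nat.beq (pcomp (pcomp d d) (pcomp d d)) pid) = true := by decide +kernel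

end CfsgLib.StdM12.Model
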