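import Cfsg.Agent.Lib.Golay.OutMathieuSmall
import Cfsg.Agent.Lib.Golay.Elems
import Cfsg.Agent.Lib.StdM12.Model.Data

/-!
Canonical codes for permutations of the 24 points; M12 with its outer involution.
-/

set_option autoImplicit false

namespace CfsgLib.StdM12.Model

open Cfsg CfsgGolay

/-- The group M12 as the stabiliser of a dodecad. -/
def MM : Subgroup (Equiv.Perm GolayPt) := subG [] [340831]

theorem mm_eq : Spor.M12 = MM := M12_eq

theorem card_MM : Nat.card MM = 95040 := card_M12

/-- The code of a permutation. -/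
def code (g : Equiv.Perm GolayPt) : ℕ := pack (fun i => idx (g (pt i))) 24

theorem code_lt (g : Equiv.Perm GolayPt) : code g < 2 ^ 120 :=
  ((pack_spec _ (fun i => (idx_lt _).trans (by norm_num))) 24).1

theorem code_repr (g : Equiv.Perm GolayPt) : Repr (code g) g := fun p => by
  rw [code, ((pack_spec _ (fun i => (idx_lt _).trans (by norm_num))) 24).2 _ (idx_lt p), pt_idx]

theorem pack_papp (c : ℕ) : ∀ k, pack (papp c) k = c % 2 ^ (5 * k)
  | 0 => by simp [pack, Nat.mod_one]
  | k + 1 => by
    rw [pack, pack_papp c k, Nat.mul_succ, pow_add, Nat.mod_mul, papp, Nat.shiftRight_eq_div_pow]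
    ring

theorem pack_congr {f f' : ℕ → ℕ} : ∀ {k : ℕ}, (∀ i < k, f i = f' i) → pack f k = pack f' k
  | 0, _ => rfl
  | k + 1, h => by rw [pack, pack, pack_congr fun i hi => h i (Nat.lt_succ_of_lt hi), h k (Nat.lt_succ_self k)]

theorem code_eq {c : ℕ} {g : Equiv.Perm GolayPt} (h : Repr c g) (hc : c < 2 ^ 120) : code g = c := by
  conv_rhs => rw [← Nat.mod_eq_of_lt hc, show (120 : ℕ) = 5 * 24 from rfl, ← pack_papp c 24]
  exact pack_congr fun i hi => by rw [h, idx_pt hi]

theorem code_inj {g g' : Equiv.Perm GolayPt} (h : code g = code g') : g = g' :=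
  (code_repr g).unique (h ▸ code_repr g')

theorem pcomp_lt (c d : ℕ) : pcomp c d < 2 ^ 120 :=
  ((pack_spec _ (fun i => Nat.mod_lt _ (by norm_num))) 24).1

theorem code_mul (g g' : Equiv.Perm GolayPt) : code (g * g') = pcomp (code g) (code g') :=
  code_eq ((code_repr g).comp (code_repr g')) (pcomp_lt _ _)

theorem code_one : code 1 = pid := code_eq repr_pid (by decide +kernel)

theorem code_inv (g : Equiv.Perm GolayPt) : code g⁻¹ = pinv (code g) :=
  code_eq (code_repr g).inv ((pack_spec _ (fun i => Nat.mod_lt _ (by norm_num))) 24).1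

/-- A canonical code of a permutation. -/
def okC (c : ℕ) : Bool :=
  Nat.blt c (2 ^ 120) && (List.range 24).all fun i =>
    Nat.blt (papp c i) 24 && Nat.beq (papp (pinv c) (papp c i)) i

/-- A canonical code of an element of M12. -/
def inM (c : ℕ) : Bool := okC c && OutSmall.memOK [] [340831] c

theorem exists_of_okC {c : ℕ} (h : okC c = true) : ∃ g : Equiv.Perm GolayPt, code g = c := by
  simp only [okC, Bool.and_eq_true, List.all_eq_true, Nat.blt_eq] at h
  obtain ⟨hc, ha⟩ := h
  obtain ⟨g, hg⟩ := Out23.exists_perm (c := c) (fun i hi => (ha i (List.mem_range.mpr hi)).1)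
    (List.Nodup.map_on (fun i hi j hj e => by
      rw [← Nat.eq_of_beq_eq_true (ha i hi).2, ← Nat.eq_of_beq_eq_true (ha j hj).2, e]) List.nodup_range)
  exact ⟨g, code_eq hg hc⟩

theorem exists_of_inM {c : ℕ} (h : inM c = true) : ∃ g ∈ MM, code g = c := by
  simp only [inM, Bool.and_eq_true] at h
  obtain ⟨g, hg⟩ := exists_of_okC h.1
  exact ⟨g, OutSmall.mem_of_memOK (hg ▸ code_repr g) h.2, hg⟩

theorem memOK_code {g : Equiv.Perm GolayPt} (h : g ∈ MM) : OutSmall.memOK [] [340831] (code g) = true :=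
  OutSmall.memOK_of_mem (by simp) (by simp) (code_repr g) h

theorem code_projInv : code projInv = cI := code_eq repr_I (by decide +kernel)

theorem projInv_sq : projInv * projInv = 1 :=
  code_inj (by rw [code_mul, code_projInv, code_one]; decide +kernel)

theorem projInv_inv : projInv⁻¹ = projInv := inv_eq_of_mul_eq_one_left projInv_sq

theorem projInv_notMem : projInv ∉ MM := fun h => by
  have h1 := memOK_code h
  rw [code_projInv] at h1
  revert h1
  decide +kernel

theorem mem_M24_of_MM {g : Equiv.Perm GolayPt} (h : g ∈ MM) : g ∈ M24 := (mem_subG.mp h).1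

theorem projInv_norm {g : Equiv.Perm GolayPt} (hg : g ∈ MM) : projInv * g * projInv⁻¹ ∈ MM := by
  obtain ⟨h1, -, h3⟩ := mem_subG.mp hg
  have hI := mem_M24_of_gensKept repr_I gensKept_all.2.1
  refine mem_subG.mpr ⟨mul_mem (mul_mem hI h1) (inv_mem hI), by simp [fixL_nil], fun o ho => ?_⟩
  rw [List.mem_singleton] at ho; subst ho
  have eC : toSet (2 ^ 24 - 1 - 340831) = Finset.univ \ toSet 340831 := by decide +kernel
  have hgC := OutSmall.eq_univ_diff (h3 340831 (by simp)) eC
  have eI1 : (toSet (2 ^ 24 - 1 - 340831)).image projInv = toSet 340831 := by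
    rw [← repr_I.toSet_pmask, OutSmall.swap_checked.2.2.2.1]
  have eI2 : (toSet 340831).image ⇑projInv⁻¹ = toSet (2 ^ 24 - 1 - 340831) := by
    rw [← eI1, Finset.image_image, ← Equiv.Perm.coe_mul, inv_mul_cancel, Equiv.Perm.coe_one, Finset.image_id]
  rw [Equiv.Perm.coe_mul, ← Finset.image_image, eI2, Equiv.Perm.coe_mul, ← Finset.image_image, hgC, eI1]

theorem projInv_norm' {g : Equiv.Perm GolayPt} (hg : g ∈ MM) : projInv * g * projInv ∈ MM := by
  have := projInv_norm hg
  rwa [projInv_inv] at this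

/-- M12 extended by the outer involution. -/
def AA : Subgroup (Equiv.Perm GolayPt) where
  carrier := {g | g ∈ MM ∨ projInv * g ∈ MM}
  one_mem' := Or.inl MM.one_mem
  mul_mem' := by
    rintro a b (ha | ha) (hb | hb)
    · exact Or.inl (MM.mul_mem ha hb)
    · refine Or.inr ?_
      rw [show projInv * (a * b) = projInv * a * projInv⁻¹ * (projInv * b) by group]
      exact MM.mul_mem (projInv_norm ha) hb
    · exact Or.inr (by rw [← mul_assoc]; exact MM.mul_mem ha hb)
    · refine Or.inl ?_
      have e : a * b = projInv * (projInv * a) * projInv * (projInv * b) := by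
        rw [← mul_assoc projInv projInv a, projInv_sq, one_mul, mul_assoc a projInv (projInv * b),
          ← mul_assoc projInv projInv b, projInv_sq, one_mul]
      rw [e]
      exact MM.mul_mem (projInv_norm' ha) hb
  inv_mem' := by
    rintro a (ha | ha)
    · exact Or.inl (MM.inv_mem ha)
    · refine Or.inr ?_
      have := projInv_norm' (MM.inv_mem ha)
      rwa [mul_inv_rev, projInv_inv, mul_assoc, mul_assoc, projInv_sq, mul_one] at this

theorem mem_AA {g : Equiv.Perm GolayPt} : g ∈ AA ↔ g ∈ MM ∨ projInv * g ∈ MM := Iff.rfl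

theorem MM_le_AA : MM ≤ AA := fun _ h => Or.inl h

theorem AA_norm {g x : Equiv.Perm GolayPt} (hg : g ∈ AA) (hx : x ∈ MM) : g * x * g⁻¹ ∈ MM := by
  rcases hg with h | h
  · exact MM.mul_mem (MM.mul_mem h hx) (MM.inv_mem h)
  · have := projInv_norm (MM.mul_mem (MM.mul_mem h hx) (MM.inv_mem h))
    rwa [show projInv * (projInv * g * x * (projInv * g)⁻¹) * projInv⁻¹ =
      projInv * projInv * (g * x * g⁻¹) * (projInv * projInv)⁻¹ by group, projInv_sq, one_mul, inv_one,
      mul_one] at this

/-- A code of an outer element. -/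
def isOut (c : ℕ) : Bool := okC c && inM (pcomp cI c) && !OutSmall.memOK [] [340831] c

theorem exists_of_isOut {c : ℕ} (h : isOut c = true) : ∃ g ∈ AA, g ∉ MM ∧ code g = c := by
  simp only [isOut, Bool.and_eq_true, Bool.not_eq_true'] at h
  obtain ⟨⟨h1, h2⟩, h3⟩ := h
  obtain ⟨g, hg⟩ := exists_of_okC h1
  refine ⟨g, Or.inr ?_, fun hm => ?_, hg⟩
  · obtain ⟨m, hm, e⟩ := exists_of_inM h2
    rw [show projInv * g = m from code_inj (by rw [code_mul, code_projInv, hg, e])]
    exact hm
  · rw [← hg, memOK_code hm] at h3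
    exact Bool.noConfusion h3

theorem mul_out {g g' : Equiv.Perm GolayPt} (hg : g ∈ AA) (h : g ∉ MM) (hg' : g' ∈ AA) (h' : g' ∉ MM) :
    g * g' ∈ MM := by
  have ha := (mem_AA.mp hg).resolve_left h
  have hb := (mem_AA.mp hg').resolve_left h'
  have e : g * g' = projInv * (projInv * g) * projInv * (projInv * g') := by
    rw [← mul_assoc projInv projInv g, projInv_sq, one_mul, mul_assoc g projInv (projInv * g'),
      ← mul_assoc projInv projInv g', projInv_sq, one_mul]
  rw [e]
  exact MM.mul_mem (projInv_norm' ha) hb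

theorem card_AA : Nat.card AA = 190080 := by
  have h2 : (MM.subgroupOf AA).index = 2 := by
    rw [Subgroup.index_eq_two_iff]
    have hI : projInv ∈ AA := Or.inr (by rw [projInv_sq]; exact MM.one_mem)
    refine ⟨⟨projInv, hI⟩, fun b => ?_⟩
    show (b : Equiv.Perm GolayPt) * projInv ∈ MM ∧ ¬ (b : Equiv.Perm GolayPt) ∈ MM ∨
      (b : Equiv.Perm GolayPt) ∈ MM ∧ ¬ (b : Equiv.Perm GolayPt) * projInv ∈ MM
    by_cases hb : (b : Equiv.Perm GolayPt) ∈ MM
    · refine Or.inr ⟨hb, fun h => projInv_notMem ?_⟩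
      have := MM.mul_mem (MM.inv_mem hb) h
      rwa [inv_mul_cancel_left] at this
    · exact Or.inl ⟨mul_out b.2 hb hI projInv_notMem, hb⟩
  rw [← Subgroup.card_mul_index (MM.subgroupOf AA), h2,
    Nat.card_congr (Subgroup.subgroupOfEquivOfLe MM_le_AA).toEquiv, card_MM]

end CfsgLib.StdM12.Model
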