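import Cfsg.Agent.Lib.StdM12.Model.Checks

/-!
The classes of involutions of M12 extended by its outer involution and their centralisers.
-/

set_option autoImplicit false

namespace CfsgLib.StdM12.Model

open CfsgGolay Data Cfsg
open Equiv (Perm)

theorem getD_mem {α : Type*} {l : List α} {i : ℕ} {d : α} (h : i < l.length) : l.getD i d ∈ l := by
  rw [List.getD_eq_getElem _ _ h]; exact List.getElem_mem h

theorem exists_pos {c : ℕ} {l : List ℕ} (h : l.any (Nat.beq c) = true) : ∃ i < l.length, l.getD i 0 = c := by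
  simp only [List.any_eq_true] at h
  obtain ⟨x, hx, e⟩ := h
  obtain ⟨i, hi, rfl⟩ := List.mem_iff_getElem.mp hx
  exact ⟨i, hi, (List.getD_eq_getElem _ _ hi).trans (Nat.eq_of_beq_eq_true e).symm⟩

theorem beq_false {a b : ℕ} (h : Nat.beq a b = false) : a ≠ b := fun e => by
  rw [e, Nat.beq_refl] at h; exact Bool.noConfusion h

theorem incB_lt : ∀ {l : List ℕ}, incB l = true → ∀ i j, i < j → j < l.length → l.getD i 0 < l.getD j 0
  | [], _, _, _, _, h => absurd h (Nat.not_lt_zero _)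
  | [a], _, i, j, h, h' => by simp only [List.length_cons, List.length_nil] at h'; omega
  | a :: b :: l, h, i, j, hij, hj => by
    simp only [incB, Bool.and_eq_true, Nat.blt_eq] at h
    obtain ⟨hab, hl⟩ := h
    obtain ⟨j, rfl⟩ := Nat.exists_eq_succ_of_ne_zero (by omega : j ≠ 0)
    have hj' : j < (b :: l).length := by simpa using hj
    rw [List.getD_cons_succ]
    cases i with
    | zero =>
      rw [List.getD_cons_zero]
      rcases Nat.eq_zero_or_pos j with rfl | h0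
      · simpa using hab
      · exact hab.trans (by simpa using incB_lt hl 0 j h0 hj')
    | succ i =>
      rw [List.getD_cons_succ]
      exact incB_lt hl i j (by omega) hj'

theorem incB_inj {l : List ℕ} (h : incB l = true) {i j : ℕ} (hi : i < l.length) (hj : j < l.length)
    (e : l.getD i 0 = l.getD j 0) : i = j := by
  rcases lt_trichotomy i j with h' | h' | h'
  · exact absurd e (incB_lt h i j h' hj).ne
  · exact h'
  · exact absurd e.symm (incB_lt h j i h' hi).ne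

theorem table_spec {gs L : List ℕ} {P : List (ℕ × ℕ × ℕ)} (h : tableB gs L P = true) (H : Subgroup (Perm GolayPt))
    (hg : ∀ a < gs.length, ∃ g ∈ H, code g = gs.getD a 0) :
    ∀ i < L.length, ∃ g ∈ H, code g = L.getD i 0 := by
  simp only [tableB, Bool.and_eq_true, List.all_eq_true, List.mem_range, Bool.or_eq_true, Nat.blt_eq] at h
  suffices ∀ n, ∀ i < L.length, (P.getD i (0, 0, 0)).2.2 = n → ∃ g ∈ H, code g = L.getD i 0 from
    fun i hi => this _ i hi rfl
  intro n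
  induction n using Nat.strong_induction_on with
  | _ n ih =>
    intro i hi hn
    rcases h.2 i hi with ⟨-, he⟩ | ⟨⟨⟨hp, ha⟩, hl⟩, he⟩
    · exact ⟨1, H.one_mem, by rw [code_one]; exact (Nat.eq_of_beq_eq_true he).symm⟩
    · obtain ⟨x, hx, hxc⟩ := ih _ (hn ▸ hl) _ hp rfl
      obtain ⟨g, hgH, hgc⟩ := hg _ ha
      exact ⟨g * x, H.mul_mem hgH hx, by rw [code_mul, hgc, hxc]; exact (Nat.eq_of_beq_eq_true he).symm⟩

theorem gen_mem {a : ℕ} (ha : a < genL.length) : ∃ g ∈ MM, code g = genL.getD a 0 :=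
  exists_of_inM (List.all_eq_true.mp gen_ok.2 _ (getD_mem ha))

/-- The data of one class. -/
structure Cls (r : Perm GolayPt) (cg C L : List ℕ) : Prop where
  invol : r * r = 1
  ne : r ≠ 1
  gens : ∀ a < cg.length, ∃ g ∈ MM, code g = cg.getD a 0 ∧ g * r = r * g
  inc : incB C = true
  mem : ∀ i < C.length, ∃ g ∈ MM, code g = C.getD i 0 ∧ g * r = r * g
  cls : ∀ i < L.length, ∃ g ∈ MM, code (g * r * g⁻¹) = L.getD i 0
  cent : ∀ g ∈ MM, g * r = r * g → ∃ i < C.length, code g = C.getD i 0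
  all : ∀ g ∈ MM, ∃ i < L.length, code (g * r * g⁻¹) = L.getD i 0

/-- The centraliser in M12. -/
def cen (r : Perm GolayPt) : Subgroup (Perm GolayPt) := MM ⊓ Subgroup.centralizer {r}

theorem mem_cen {r g : Perm GolayPt} : g ∈ cen r ↔ g ∈ MM ∧ g * r = r * g := by
  rw [cen, Subgroup.mem_inf, Subgroup.mem_centralizer_singleton_iff]

theorem cls_of {r : Perm GolayPt} {cg C L : List ℕ} {P Q : List (ℕ × ℕ × ℕ)} {c : ℕ} (hc : code r = c)
    (h2 : r * r = 1) (hne : r ≠ 1)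
    (hg : ∀ g ∈ cg, inM g = true ∧ Nat.beq (pcomp g c) (pcomp c g) = true)
    (hC : tableB cg C P = true) (hCi : incB C = true) (hL : classB c L Q = true) (hLi : incB L = true)
    (hcard : C.length * L.length = 95040) : Cls r cg C L := by
  classical
  have gens : ∀ a < cg.length, ∃ g ∈ MM, code g = cg.getD a 0 ∧ g * r = r * g := fun a ha => by
    obtain ⟨h1, h3⟩ := hg _ (getD_mem (d := 0) ha)
    obtain ⟨g, hgm, hgc⟩ := exists_of_inM h1
    exact ⟨g, hgm, hgc, code_inj (by rw [code_mul, code_mul, hgc, hc]; exact Nat.eq_of_beq_eq_true h3)⟩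
  have mem : ∀ i < C.length, ∃ g ∈ MM, code g = C.getD i 0 ∧ g * r = r * g := fun i hi => by
    obtain ⟨g, hg', hgc⟩ := table_spec hC (cen r) (fun a ha => by
      obtain ⟨g, h1, h3, h4⟩ := gens a ha
      exact ⟨g, mem_cen.mpr ⟨h1, h4⟩, h3⟩) i hi
    exact ⟨g, (mem_cen.mp hg').1, hgc, (mem_cen.mp hg').2⟩
  have cls : ∀ i < L.length, ∃ g ∈ MM, code (g * r * g⁻¹) = L.getD i 0 := by
    simp only [classB, Bool.and_eq_true, List.all_eq_true, List.mem_range, Bool.or_eq_true, Nat.blt_eq] at hL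
    suffices ∀ n, ∀ i < L.length, (Q.getD i (0, 0, 0)).2.2 = n → ∃ g ∈ MM, code (g * r * g⁻¹) = L.getD i 0 from
      fun i hi => this _ i hi rfl
    intro n
    induction n using Nat.strong_induction_on with
    | _ n ih =>
      intro i hi hn
      rcases hL.2 i hi with ⟨-, he⟩ | ⟨⟨⟨hp, ha⟩, hl⟩, he⟩
      · refine ⟨1, MM.one_mem, ?_⟩
        rw [one_mul, inv_one, mul_one, hc]
        exact (Nat.eq_of_beq_eq_true he).symm
      · obtain ⟨x, hx, hxc⟩ := ih _ (hn ▸ hl) _ hp rfl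
        obtain ⟨g, hgm, hgc⟩ := gen_mem ha
        refine ⟨g * x, MM.mul_mem hgm hx, ?_⟩
        rw [Nat.eq_of_beq_eq_true he, show g * x * r * (g * x)⁻¹ = g * (x * r * x⁻¹) * g⁻¹ by group, code_mul,
          code_mul, code_inv, hgc, hxc]
        rfl
  choose m hm hmc hmr using mem
  choose x hx hxc using cls
  have hinj : Function.Injective fun q : Fin L.length × Fin C.length =>
      (⟨x q.1 q.1.2 * m q.2 q.2.2, MM.mul_mem (hx _ q.1.2) (hm _ q.2.2)⟩ : MM) := by
    rintro ⟨i, j⟩ ⟨i', j'⟩ e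
    have e' : x i i.2 * m j j.2 = x i' i'.2 * m j' j'.2 := congrArg Subtype.val e
    have key : ∀ (a : Fin L.length) (b : Fin C.length),
        x a a.2 * m b b.2 * r * (x a a.2 * m b b.2)⁻¹ = x a a.2 * r * (x a a.2)⁻¹ := fun a b => by
      rw [mul_assoc (x a a.2) (m b b.2) r, hmr _ b.2]; group
    have h1 : (L.getD i 0) = L.getD i' 0 := by
      rw [← hxc _ i.2, ← hxc _ i'.2, ← key i j, ← key i' j', e']
    obtain rfl : i = i' := Fin.ext (incB_inj hLi i.2 i'.2 h1)
    have h3 := congrArg code (mul_left_cancel e')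
    rw [hmc _ j.2, hmc _ j'.2] at h3
    exact Prod.ext rfl (Fin.ext (incB_inj hCi j.2 j'.2 h3))
  have hbij := hinj.bijective_of_nat_card_le (by
    rw [card_MM, Nat.card_prod, Nat.card_fin, Nat.card_fin, mul_comm, hcard])
  have all : ∀ g ∈ MM, ∃ i < L.length, code (g * r * g⁻¹) = L.getD i 0 := fun g hg => by
    obtain ⟨⟨i, j⟩, e⟩ := hbij.2 ⟨g, hg⟩
    have e' : x i i.2 * m j j.2 = g := congrArg Subtype.val e
    refine ⟨i, i.2, ?_⟩
    rw [← e', ← hxc _ i.2]
    congr 1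
    rw [mul_assoc (x i i.2) (m j j.2) r, hmr _ j.2]; group
  refine ⟨h2, hne, gens, hCi, fun i hi => ⟨m i hi, hm i hi, hmc i hi, hmr i hi⟩,
    fun i hi => ⟨x i hi, hx i hi, hxc i hi⟩, ?_, all⟩
  intro g hg hgr
  obtain ⟨i₀, hi₀, e0⟩ := all 1 MM.one_mem
  obtain ⟨⟨i, j⟩, e⟩ := hbij.2 ⟨(x i₀ hi₀) * g, MM.mul_mem (hx _ hi₀) hg⟩
  have e' : x i i.2 * m j j.2 = x i₀ hi₀ * g := congrArg Subtype.val e
  have h1 : x i i.2 * r * (x i i.2)⁻¹ = x i₀ hi₀ * r * (x i₀ hi₀)⁻¹ := by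
    have a1 : x i i.2 * m j j.2 * r * (x i i.2 * m j j.2)⁻¹ = x i i.2 * r * (x i i.2)⁻¹ := by
      rw [mul_assoc (x i i.2) (m j j.2) r, hmr _ j.2]; group
    have a2 : x i₀ hi₀ * g * r * (x i₀ hi₀ * g)⁻¹ = x i₀ hi₀ * r * (x i₀ hi₀)⁻¹ := by
      rw [mul_assoc (x i₀ hi₀) g r, hgr]; group
    rw [← a1, e', a2]
  obtain rfl : (i : ℕ) = i₀ := incB_inj hLi i.2 hi₀ (by rw [← hxc _ i.2, ← hxc _ hi₀, h1])
  exact ⟨j, j.2, by rw [← hmc _ j.2, mul_left_cancel e']⟩

theorem exists_rep {k : ℕ} (hk : k < 3) : ∃ r ∈ AA, code r = repL.getD k 0 ∧ r * r = 1 ∧ r ≠ 1 ∧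
    (k < 2 → r ∈ MM) ∧ (k = 2 → r ∉ MM) ∧ ∃ h ∈ AA, h ∉ MM ∧ code h = outL.getD k 0 ∧ h * r = r * h := by
  obtain ⟨hA, hB, hC, hall⟩ := rep_ok
  simp only [List.all_eq_true, List.mem_range, Bool.and_eq_true, Bool.not_eq_true'] at hall
  obtain ⟨⟨⟨⟨h2, h1⟩, ho⟩, hcm⟩, -⟩ := hall k hk
  obtain ⟨h, hh, hho, hhc⟩ := exists_of_isOut ho
  obtain ⟨r, hr, hrc, hrM⟩ : ∃ r ∈ AA, code r = repL.getD k 0 ∧ (k < 2 → r ∈ MM) ∧ (k = 2 → r ∉ MM) := by
    interval_cases k
    · obtain ⟨r, hr, e⟩ := exists_of_inM hA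
      exact ⟨r, MM_le_AA hr, e, fun _ => hr, fun h => absurd h (by norm_num)⟩
    · obtain ⟨r, hr, e⟩ := exists_of_inM hB
      exact ⟨r, MM_le_AA hr, e, fun _ => hr, fun h => absurd h (by norm_num)⟩
    · obtain ⟨r, hr, hrn, e⟩ := exists_of_isOut hC
      exact ⟨r, hr, e, fun h => absurd h (by norm_num), fun _ => hrn⟩
  refine ⟨r, hr, hrc, code_inj (by rw [code_mul, code_one, hrc]; exact Nat.eq_of_beq_eq_true h2), fun e => ?_,
    hrM.1, hrM.2, h, hh, hho, hhc, code_inj (by rw [code_mul, code_mul, hhc, hrc]; exact Nat.eq_of_beq_eq_true hcm)⟩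
  exact beq_false h1 (by rw [← hrc, e, code_one])

/-- The representative of class `k`. -/
noncomputable def rep (k : ℕ) : Perm GolayPt := if h : k < 3 then (exists_rep h).choose else 1

theorem rep_spec {k : ℕ} (hk : k < 3) : rep k ∈ AA ∧ code (rep k) = repL.getD k 0 ∧ rep k * rep k = 1 ∧ rep k ≠ 1 ∧
    (k < 2 → rep k ∈ MM) ∧ (k = 2 → rep k ∉ MM) ∧
    ∃ h ∈ AA, h ∉ MM ∧ code h = outL.getD k 0 ∧ h * rep k = rep k * h := by
  rw [rep, dif_pos hk]; exact (exists_rep hk).choose_spec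

theorem rep_gens {k : ℕ} (hk : k < 3) {g : ℕ} (hg : g ∈ cgL.getD k []) :
    inM g = true ∧ Nat.beq (pcomp g (repL.getD k 0)) (pcomp (repL.getD k 0) g) = true := by
  have h := List.all_eq_true.mp rep_ok.2.2.2 k (List.mem_range.mpr hk)
  simp only [Bool.and_eq_true] at h
  simpa only [Bool.and_eq_true] using List.all_eq_true.mp h.2 g hg

theorem clsA' : Cls (rep 0) (cgL.getD 0 []) centA clsA :=
  cls_of (rep_spec (by norm_num)).2.1 (rep_spec (by norm_num)).2.2.1 (rep_spec (by norm_num)).2.2.2.1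
    (fun _ => rep_gens (by norm_num)) centA_ok.1 centA_ok.2.1 clsA_ok.1 clsA_ok.2.1
    (by rw [centA_ok.2.2, clsA_ok.2.2])

theorem clsB' : Cls (rep 1) (cgL.getD 1 []) centB clsB :=
  cls_of (rep_spec (by norm_num)).2.1 (rep_spec (by norm_num)).2.2.1 (rep_spec (by norm_num)).2.2.2.1
    (fun _ => rep_gens (by norm_num)) centB_ok.1 centB_ok.2.1 clsB_ok.1 clsB_ok.2.1
    (by rw [centB_ok.2.2, clsB_ok.2.2])

theorem clsC' : Cls (rep 2) (cgL.getD 2 []) centC clsC :=
  cls_of (rep_spec (by norm_num)).2.1 (rep_spec (by norm_num)).2.2.1 (rep_spec (by norm_num)).2.2.2.1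
    (fun _ => rep_gens (by norm_num)) centC_ok.1 centC_ok.2.1 clsC_ok.1 clsC_ok.2.1
    (by rw [centC_ok.2.2, clsC_ok.2.2])

/-- A Sylow subgroup of the extended group. -/
theorem exists_sylow_list : ∃ S : Subgroup (Perm GolayPt), S ≤ AA ∧ Nat.card S = 128 ∧
    ∀ g ∈ S, ∃ i < 128, code g = syl.getD i 0 := by
  classical
  obtain ⟨hT, hinc, hlen, hgens, hclo, -⟩ := syl_ok
  simp only [List.all_eq_true, Bool.or_eq_true] at hgens
  have hg : ∀ a < sylG.length, ∃ g ∈ AA, code g = sylG.getD a 0 := fun a ha => by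
    rcases hgens _ (getD_mem ha) with h | h
    · obtain ⟨g, hg, e⟩ := exists_of_inM h; exact ⟨g, MM_le_AA hg, e⟩
    · obtain ⟨g, hg, -, e⟩ := exists_of_isOut h; exact ⟨g, hg, e⟩
  choose y hy hyc using hg
  let S : Subgroup (Perm GolayPt) := Subgroup.closure (Set.range fun a : Fin sylG.length => y a a.2)
  have hSA : S ≤ AA := (Subgroup.closure_le _).mpr (by rintro _ ⟨a, rfl⟩; exact hy _ a.2)
  have hmem := table_spec hT S fun a ha => ⟨_, Subgroup.subset_closure ⟨⟨a, ha⟩, rfl⟩, hyc a ha⟩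
  choose z hzS hzc using hmem
  let stab : Subgroup (Perm GolayPt) :=
    { carrier := {g | ∀ c ∈ syl, pcomp (code g) c ∈ syl}
      one_mem' := fun c hc => by
        obtain ⟨i, hi, rfl⟩ := List.mem_iff_getElem.mp hc
        rw [← List.getD_eq_getElem _ 0 hi, ← hzc i hi, ← code_mul, one_mul, hzc i hi]
        exact getD_mem hi
      mul_mem' := by
        intro g g' hg hg' c hc
        obtain ⟨i, hi, rfl⟩ := List.mem_iff_getElem.mp hc
        rw [← List.getD_eq_getElem _ 0 hi, ← hzc i hi, ← code_mul, mul_assoc, code_mul, code_mul g' (z i hi),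
          hzc i hi]
        exact hg _ (hg' _ (getD_mem hi))
      inv_mem' := by
        intro g hg c hc
        have hinj : Function.Injective (fun c : {c // c ∈ syl} => (⟨_, hg c.1 c.2⟩ : {c // c ∈ syl})) := by
          rintro ⟨a, ha⟩ ⟨b, hb⟩ e
          obtain ⟨i, hi, rfl⟩ := List.mem_iff_getElem.mp ha
          obtain ⟨j, hj, rfl⟩ := List.mem_iff_getElem.mp hb
          have e' : pcomp (code g) syl[i] = pcomp (code g) syl[j] := congrArg Subtype.val e
          rw [← List.getD_eq_getElem _ 0 hi, ← List.getD_eq_getElem _ 0 hj, ← hzc i hi, ← hzc j hj, ← code_mul,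
            ← code_mul] at e'
          have e'' := congrArg code (mul_left_cancel (code_inj e'))
          rw [hzc i hi, hzc j hj, List.getD_eq_getElem _ 0 hi, List.getD_eq_getElem _ 0 hj] at e''
          exact Subtype.ext e''
        obtain ⟨⟨d, hd⟩, e⟩ := (Finite.injective_iff_surjective.mp hinj) ⟨c, hc⟩
        have e' : pcomp (code g) d = c := congrArg Subtype.val e
        obtain ⟨j, hj, rfl⟩ := List.mem_iff_getElem.mp hd
        rw [← e', ← List.getD_eq_getElem _ 0 hj, ← hzc j hj, ← code_mul, ← code_mul, inv_mul_cancel_left, hzc j hj]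
        exact getD_mem hj }
  have hS : S ≤ stab := (Subgroup.closure_le _).mpr (by
    rintro _ ⟨a, rfl⟩ c hc
    simp only [List.all_eq_true, List.any_eq_true] at hclo
    obtain ⟨d, hd, e⟩ := hclo _ (getD_mem (d := 0) a.2) c hc
    rw [hyc _ a.2, Nat.eq_of_beq_eq_true e]
    exact hd)
  have hlist : ∀ g ∈ S, ∃ i < 128, code g = syl.getD i 0 := fun g hg => by
    have h1 : (1 : Perm GolayPt) ∈ S := S.one_mem
    obtain ⟨i0, hi0, e0⟩ : ∃ i < syl.length, syl.getD i 0 = pid := by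
      refine exists_pos ?_
      revert hlen
      decide +kernel
    have h2 := hS hg _ (getD_mem (d := 0) hi0)
    rw [e0, ← code_one, ← code_mul, mul_one] at h2
    obtain ⟨i, hi, e⟩ := List.mem_iff_getElem.mp h2
    exact ⟨i, hlen ▸ hi, by rw [List.getD_eq_getElem _ 0 hi]; exact e.symm⟩
  refine ⟨S, hSA, ?_, hlist⟩
  have hle : Nat.card S ≤ 128 := by
    refine (Nat.card_le_card_of_injective (β := Fin 128)
      (fun g : S => ⟨(hlist g g.2).choose, (hlist g g.2).choose_spec.1⟩) ?_).trans (by simp)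
    intro a b e
    have e' : (hlist a a.2).choose = (hlist b b.2).choose := congrArg Fin.val e
    exact Subtype.ext (code_inj (by rw [(hlist a a.2).choose_spec.2, (hlist b b.2).choose_spec.2, e']))
  have hlt : ∀ i : Fin 128, (i : ℕ) < syl.length := fun i => by rw [hlen]; exact i.2
  refine le_antisymm hle (le_of_eq_of_le (Nat.card_fin 128).symm (Nat.card_le_card_of_injective
    (fun i : Fin 128 => (⟨z i (hlt i), hzS _ (hlt i)⟩ : S)) ?_))
  intro a b e
  have e' := congrArg (fun w : S => code w.1) e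
  simp only [hzc] at e'
  exact Fin.ext (incB_inj hinc (hlt a) (hlt b) e')

theorem classes_ok {i : ℕ} (hi : i < 128) (h1 : syl.getD i 0 ≠ pid)
    (h2 : pcomp (syl.getD i 0) (syl.getD i 0) = pid) :
    (∃ j < clsA.length, clsA.getD j 0 = syl.getD i 0) ∨ (∃ j < clsB.length, clsB.getD j 0 = syl.getD i 0) ∨
      ∃ j < clsC.length, clsC.getD j 0 = syl.getD i 0 := by
  have h := syl_ok.2.2.2.2.2
  simp only [List.all_eq_true, List.mem_range, Bool.or_eq_true, Bool.not_eq_true'] at h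
  rcases h i hi with (h | h) | h
  · exact absurd (Nat.eq_of_beq_eq_true h) h1
  · exact absurd h2 (beq_false h)
  · generalize hk : (sylI.getD i (3, 0)).1 = k at h
    match k, h with
    | 0, h =>
      simp only [Bool.and_eq_true, Nat.blt_eq] at h
      exact Or.inl ⟨_, clsA_ok.2.2.symm ▸ h.1, Nat.eq_of_beq_eq_true h.2⟩
    | 1, h =>
      simp only [Bool.and_eq_true, Nat.blt_eq] at h
      exact Or.inr (Or.inl ⟨_, clsB_ok.2.2.symm ▸ h.1, Nat.eq_of_beq_eq_true h.2⟩)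
    | 2, h =>
      simp only [Bool.and_eq_true, Nat.blt_eq] at h
      exact Or.inr (Or.inr ⟨_, clsC_ok.2.2.symm ▸ h.1, Nat.eq_of_beq_eq_true h.2⟩)
    | _ + 3, h => exact Bool.noConfusion h

/-- Every involution is conjugate under M12 to a representative. -/
theorem involutions {x : Perm GolayPt} (hx : x ∈ AA) (hx2 : x * x = 1) (hx1 : x ≠ 1) :
    ∃ k < 3, ∃ g ∈ MM, g * rep k * g⁻¹ = x := by
  haveI : Fact (Nat.Prime 2) := ⟨Nat.prime_two⟩
  obtain ⟨S, hSA, hcard, hlist⟩ := exists_sylow_list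
  let P : Sylow 2 AA := Sylow.ofCard (S.subgroupOf AA) (by
    rw [Nat.card_congr (Subgroup.subgroupOfEquivOfLe hSA).toEquiv, hcard, card_AA]
    rw [show (190080 : ℕ) = 2 ^ 7 * 1485 by norm_num, Nat.factorization_mul (by norm_num) (by norm_num),
      Nat.Prime.factorization_pow Nat.prime_two]
    simp [Nat.factorization_eq_zero_of_not_dvd (by norm_num : ¬ 2 ∣ 1485)])
  have hp : IsPGroup 2 (Subgroup.zpowers (⟨x, hx⟩ : AA)) := IsPGroup.of_card (n := 1) (by
    rw [Nat.card_zpowers, pow_one]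
    exact orderOf_eq_prime (Subtype.ext (by rw [pow_two]; exact hx2)) fun e => hx1 (congrArg Subtype.val e))
  obtain ⟨Q, hQ⟩ := hp.exists_le_sylow
  obtain ⟨g, hg⟩ := MulAction.exists_smul_eq AA Q P
  have h1 : (g : Perm GolayPt) * x * (g : Perm GolayPt)⁻¹ ∈ S := by
    have : g * ⟨x, hx⟩ * g⁻¹ ∈ ((P : Sylow 2 AA) : Subgroup AA) := by
      rw [← hg, Sylow.coe_subgroup_smul]
      exact Subgroup.smul_mem_pointwise_smul (⟨x, hx⟩ : AA) (MulAut.conj g) _ (hQ (Subgroup.mem_zpowers _))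
    exact this
  set s := (g : Perm GolayPt) * x * (g : Perm GolayPt)⁻¹
  have hs2 : s * s = 1 := by
    rw [show s * s = (g : Perm GolayPt) * (x * x) * (g : Perm GolayPt)⁻¹ by simp only [s]; group, hx2, mul_one,
      mul_inv_cancel]
  have hs1 : s ≠ 1 := fun e => hx1 (conj_eq_one_iff.mp e)
  obtain ⟨i, hi, e⟩ := hlist s h1
  obtain ⟨k, hk, y, hy, ey⟩ : ∃ k < 3, ∃ y ∈ MM, y * rep k * y⁻¹ = s := by
    rcases classes_ok hi (fun h => hs1 (code_inj (by rw [e, h, code_one])))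
      (by rw [← e, ← code_mul, hs2, code_one]) with ⟨j, hj, ej⟩ | ⟨j, hj, ej⟩ | ⟨j, hj, ej⟩
    · obtain ⟨y, hy, ey⟩ := clsA'.cls j hj
      exact ⟨0, by norm_num, y, hy, code_inj (by rw [ey, ej, e])⟩
    · obtain ⟨y, hy, ey⟩ := clsB'.cls j hj
      exact ⟨1, by norm_num, y, hy, code_inj (by rw [ey, ej, e])⟩
    · obtain ⟨y, hy, ey⟩ := clsC'.cls j hj
      exact ⟨2, by norm_num, y, hy, code_inj (by rw [ey, ej, e])⟩
  refine ⟨k, hk, ?_⟩
  obtain ⟨-, -, -, -, -, -, h, hh, hho, -, hhc⟩ := rep_spec hk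
  have hxe : x = (g : Perm GolayPt)⁻¹ * y * rep k * ((g : Perm GolayPt)⁻¹ * y)⁻¹ := by
    rw [show (g : Perm GolayPt)⁻¹ * y * rep k * ((g : Perm GolayPt)⁻¹ * y)⁻¹ =
      (g : Perm GolayPt)⁻¹ * (y * rep k * y⁻¹) * g by group, ey]
    simp only [s]; group
  set w := (g : Perm GolayPt)⁻¹ * y
  have hw : w ∈ AA := AA.mul_mem (AA.inv_mem g.2) (MM_le_AA hy)
  by_cases hwM : w ∈ MM
  · exact ⟨w, hwM, hxe.symm⟩
  · refine ⟨w * h, mul_out hw hwM hh hho, ?_⟩
    rw [hxe, show w * h * rep k * (w * h)⁻¹ = w * (h * rep k) * h⁻¹ * w⁻¹ by group, hhc]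
    group

end CfsgLib.StdM12.Model
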