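import Cfsg.Agent.Lib.StdM12.Model.Facts

/-!
The centralisers of two involutions generate M12.
-/

set_option autoImplicit false

namespace CfsgLib.StdM12.Model

open CfsgGolay Data Cfsg
open Equiv (Perm)

theorem word_mem {gs : List ℕ} {H : Subgroup (Perm GolayPt)} (hg : ∀ a < gs.length, ∃ g ∈ H, code g = gs.getD a 0) :
    ∀ w : List ℕ, (∀ j ∈ w, j < gs.length) → ∃ g ∈ H, code g = wordC gs w
  | [], _ => ⟨1, H.one_mem, code_one⟩
  | a :: w, h => by
    obtain ⟨g, hgH, hgc⟩ := hg a (h a List.mem_cons_self)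
    obtain ⟨x, hx, hxc⟩ := word_mem hg w fun j hj => h j (List.mem_cons_of_mem _ hj)
    exact ⟨g * x, H.mul_mem hgH hx, by rw [code_mul, hgc, hxc]; rfl⟩

theorem eq_MM {H : Subgroup (Perm GolayPt)} (hle : H ≤ MM)
    (h : ∀ a < 3, ∃ g ∈ H, code g = genL.getD a 0) : H = MM := by
  refine OutSmall.gen12 H hle fun c hc g hg => ?_
  rw [← gen_ok.1] at hc
  obtain ⟨i, hi, rfl⟩ := List.mem_iff_getElem.mp hc
  have h3 : genL.length = 3 := by decide
  obtain ⟨x, hx, e⟩ := h i (h3 ▸ hi)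
  rw [List.getD_eq_getElem _ _ hi] at e
  rw [hg.unique (e ▸ code_repr x)]
  exact hx

theorem forest_spec {r : Perm GolayPt} {cg C L : List ℕ} {F : List (ℕ × ℕ × ℕ)} {sub : List (ℕ × List (List ℕ))}
    (K : Cls r cg C L) (hr : r ∈ MM) {c : ℕ} (hc : code r = c) (hF : forestB c cg L F sub = true)
    (hsub : sub.all (subB cg) = true) {g : Perm GolayPt} (hg : g ∈ MM) (hgr : g * r ≠ r * g)
    {H : Subgroup (Perm GolayPt)} (hle : H ≤ MM) (hcH : cen r ≤ H) (hgH : g ∈ H) : H = MM := by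
  simp only [forestB, Bool.and_eq_true, List.all_eq_true, List.mem_range, Bool.or_eq_true, Nat.blt_eq,
    Bool.not_eq_true'] at hF
  simp only [List.all_eq_true] at hsub
  obtain ⟨i, hi, he⟩ := K.all g hg
  have hne : L.getD i 0 ≠ c := fun e => hgr (by
    rw [← mul_inv_eq_iff_eq_mul]
    exact code_inj (by rw [he, e, hc]))
  suffices ∀ n, ∀ i < L.length, (F.getD i (0, 0, 0)).2.2 = n → L.getD i 0 ≠ c → ∀ g ∈ MM, g ∈ H →
      code (g * r * g⁻¹) = L.getD i 0 → H = MM from this _ i hi rfl hne g hg hgH he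
  intro n
  induction n using Nat.strong_induction_on with
  | _ n ih =>
    intro i hi hn hne g hg hgH he
    rcases hF.2 i hi with (h | ⟨⟨-, hs⟩, hx⟩) | ⟨⟨⟨⟨hp, ha⟩, hl⟩, hpr⟩, hx⟩
    · exact absurd (Nat.eq_of_beq_eq_true h) hne
    · set e := sub.getD (F.getD i (0, 0, 0)).1 (0, []) with hedef
      have hB := hsub e (getD_mem hs)
      simp only [subB, Bool.and_eq_true, List.all_eq_true, List.mem_range, Nat.blt_eq] at hB
      obtain ⟨⟨hm, -⟩, hw⟩ := hB
      obtain ⟨x, hxm, hxc⟩ := exists_of_inM hm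
      have hcomm : g⁻¹ * x * r = r * (g⁻¹ * x) := by
        have h1 : g * r * g⁻¹ * x = x * r := code_inj (by
          rw [code_mul _ x, code_mul x r, he, hxc, hc]; exact Nat.eq_of_beq_eq_true hx)
        calc g⁻¹ * x * r = g⁻¹ * (g * r * g⁻¹ * x) := by rw [h1, mul_assoc]
          _ = r * (g⁻¹ * x) := by group
      have hxH : x ∈ H := by
        have := H.mul_mem hgH (hcH (mem_cen.mpr ⟨MM.mul_mem (MM.inv_mem hg) hxm, hcomm⟩))
        rwa [mul_inv_cancel_left] at this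
      have hgs : ∀ a < (cg ++ [e.1]).length, ∃ y ∈ H, code y = (cg ++ [e.1]).getD a 0 := by
        intro a ha
        rw [List.length_append, List.length_singleton] at ha
        by_cases h : a < cg.length
        · obtain ⟨y, hy, hyc, hyr⟩ := K.gens a h
          exact ⟨y, hcH (mem_cen.mpr ⟨hy, hyr⟩), by rw [List.getD_append _ _ _ _ h, hyc]⟩
        · obtain rfl : a = cg.length := by omega
          exact ⟨x, hxH, by rw [List.getD_append_right _ _ _ _ le_rfl, Nat.sub_self]; exact hxc⟩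
      refine eq_MM hle fun a ha => ?_
      obtain ⟨y, hy, hyc⟩ := word_mem hgs (e.2.getD a []) fun j hj => by
        rw [List.length_append, List.length_singleton]; exact (hw a ha).1 j hj
      exact ⟨y, hy, by rw [hyc]; exact Nat.eq_of_beq_eq_true (hw a ha).2⟩
    · obtain ⟨y, hy, hyc, hyr⟩ := K.gens _ ha
      have hyH : y ∈ H := hcH (mem_cen.mpr ⟨hy, hyr⟩)
      obtain ⟨x, hxm, hxc⟩ := K.cls _ hp
      refine ih _ (hn ▸ hl) _ hp rfl (beq_false hpr) (y⁻¹ * g) (MM.mul_mem (MM.inv_mem hy) hg)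
        (H.mul_mem (H.inv_mem hyH) hgH) ?_
      have h1 : g * r * g⁻¹ * y = y * (x * r * x⁻¹) := code_inj (by
        rw [code_mul _ y, code_mul y, he, hyc, hxc]; exact Nat.eq_of_beq_eq_true hx)
      rw [show y⁻¹ * g * r * (y⁻¹ * g)⁻¹ = y⁻¹ * (g * r * g⁻¹ * y) by group, h1, inv_mul_cancel_left, hxc]

theorem centre_spec {r : Perm GolayPt} {cg C L : List ℕ} (K : Cls r cg C L) {c : ℕ} (hc : code r = c)
    (h : centreB c cg C = true) {z : Perm GolayPt} (hz : z ∈ cen r) (hzc : ∀ y ∈ cen r, z * y = y * z) :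
    z = 1 ∨ z = r := by
  simp only [centreB, List.all_eq_true, List.any_eq_true, Bool.or_eq_true, Bool.not_eq_true'] at h
  obtain ⟨i, hi, e⟩ := K.cent z (mem_cen.mp hz).1 (mem_cen.mp hz).2
  rcases h _ (getD_mem (d := 0) hi) with (h1 | h1) | ⟨g, hg, h1⟩
  · exact Or.inl (code_inj (by rw [e, code_one]; exact Nat.eq_of_beq_eq_true h1))
  · exact Or.inr (code_inj (by rw [e, hc]; exact Nat.eq_of_beq_eq_true h1))
  · exfalso
    obtain ⟨a, ha, rfl⟩ := List.mem_iff_getElem.mp hg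
    obtain ⟨y, hy, hyc, hyr⟩ := K.gens a ha
    refine beq_false h1 ?_
    rw [← e, ← List.getD_eq_getElem _ 0 ha, ← hyc, ← code_mul, ← code_mul, hzc y (mem_cen.mpr ⟨hy, hyr⟩)]

theorem inner_class {x : Perm GolayPt} (hx : x ∈ MM) (hx2 : x * x = 1) (hx1 : x ≠ 1) :
    ∃ k < 2, ∃ g ∈ MM, g * rep k * g⁻¹ = x := by
  obtain ⟨k, hk, g, hg, e⟩ := involutions (MM_le_AA hx) hx2 hx1
  refine ⟨k, ?_, g, hg, e⟩
  by_contra h
  obtain rfl : k = 2 := by omega
  refine (rep_spec hk).2.2.2.2.2.1 rfl ?_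
  rw [show rep 2 = g⁻¹ * x * g by rw [← e]; group]
  exact MM.mul_mem (MM.mul_mem (MM.inv_mem hg) hx) hg

theorem gen_rep {k : ℕ} (hk : k < 2) {g : Perm GolayPt} (hg : g ∈ MM) (hgr : g * rep k ≠ rep k * g)
    {H : Subgroup (Perm GolayPt)} (hle : H ≤ MM) (hcH : cen (rep k) ≤ H) (hgH : g ∈ H) : H = MM := by
  have hs := rep_spec (show k < 3 by omega)
  interval_cases k
  · exact forest_spec clsA' (hs.2.2.2.2.1 (by norm_num)) hs.2.1 forA_ok.1 forA_ok.2 hg hgr hle hcH hgH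
  · exact forest_spec clsB' (hs.2.2.2.2.1 (by norm_num)) hs.2.1 forB_ok.1 forB_ok.2 hg hgr hle hcH hgH

theorem gen_invol {u g : Perm GolayPt} (hu : u ∈ MM) (hu2 : u * u = 1) (hu1 : u ≠ 1) (hg : g ∈ MM)
    (hgu : g * u ≠ u * g) {H : Subgroup (Perm GolayPt)} (hle : H ≤ MM) (hcH : cen u ≤ H) (hgH : g ∈ H) :
    H = MM := by
  obtain ⟨k, hk, x, hx, rfl⟩ := inner_class hu hu2 hu1
  have h := gen_rep hk (MM.mul_mem (MM.mul_mem (MM.inv_mem hx) hg) hx) (fun e => hgu (by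
      calc g * (x * rep k * x⁻¹) = x * (x⁻¹ * g * x * rep k) * x⁻¹ := by group
        _ = x * rep k * x⁻¹ * g := by rw [e]; group))
    (H := H.comap (MulAut.conj x).toMonoidHom) (fun y hy => by
      have hy' : x * y * x⁻¹ ∈ H := hy
      have := MM.mul_mem (MM.mul_mem (MM.inv_mem hx) (hle hy')) hx
      rwa [show x⁻¹ * (x * y * x⁻¹) * x = y by group] at this)
    (fun y hy => hcH (mem_cen.mpr ⟨MM.mul_mem (MM.mul_mem hx (mem_cen.mp hy).1) (MM.inv_mem hx), by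
      show x * y * x⁻¹ * (x * rep k * x⁻¹) = x * rep k * x⁻¹ * (x * y * x⁻¹)
      rw [show x * y * x⁻¹ * (x * rep k * x⁻¹) = x * (y * rep k) * x⁻¹ by group, (mem_cen.mp hy).2]; group⟩))
    (show x * (x⁻¹ * g * x) * x⁻¹ ∈ H by rwa [show x * (x⁻¹ * g * x) * x⁻¹ = g by group])
  refine le_antisymm hle fun y hy => ?_
  have h1 : x * (x⁻¹ * y * x) * x⁻¹ ∈ H :=
    (h.ge (MM.mul_mem (MM.mul_mem (MM.inv_mem hx) hy) hx) : x⁻¹ * y * x ∈ H.comap (MulAut.conj x).toMonoidHom)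
  rwa [show x * (x⁻¹ * y * x) * x⁻¹ = y by group] at h1

theorem maximal {u v : Perm GolayPt} (hu : u ∈ MM) (hu2 : u * u = 1) (hu1 : u ≠ 1) (hv : v ∈ MM)
    (hv2 : v * v = 1) (hv1 : v ≠ 1) (huv : u ≠ v) {H : Subgroup (Perm GolayPt)} (hle : H ≤ MM)
    (hcu : cen u ≤ H) (hcv : cen v ≤ H) : H = MM := by
  by_cases h : ∀ g ∈ cen v, g * u = u * g
  · exfalso
    have huc : u ∈ cen v := mem_cen.mpr ⟨hu, (h v (mem_cen.mpr ⟨hv, rfl⟩)).symm⟩
    obtain ⟨k, hk, x, hx, ev⟩ := inner_class hv hv2 hv1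
    have hz : x⁻¹ * u * x = 1 ∨ x⁻¹ * u * x = rep k := by
      have hmem : x⁻¹ * u * x ∈ cen (rep k) := mem_cen.mpr ⟨MM.mul_mem (MM.mul_mem (MM.inv_mem hx) hu) hx, by
        rw [show rep k = x⁻¹ * v * x by rw [← ev]; group,
          show x⁻¹ * u * x * (x⁻¹ * v * x) = x⁻¹ * (u * v) * x by group, (mem_cen.mp huc).2]
        group⟩
      have hcomm : ∀ y ∈ cen (rep k), x⁻¹ * u * x * y = y * (x⁻¹ * u * x) := fun y hy => by
        have h1 := h (x * y * x⁻¹) (mem_cen.mpr ⟨MM.mul_mem (MM.mul_mem hx (mem_cen.mp hy).1) (MM.inv_mem hx), by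
          rw [← ev, show x * y * x⁻¹ * (x * rep k * x⁻¹) = x * (y * rep k) * x⁻¹ by group, (mem_cen.mp hy).2]
          group⟩)
        calc x⁻¹ * u * x * y = x⁻¹ * (u * (x * y * x⁻¹)) * x := by group
          _ = y * (x⁻¹ * u * x) := by rw [← h1]; group
      have hs := rep_spec (show k < 3 by omega)
      interval_cases k
      · exact centre_spec clsA' hs.2.1 centre_ok.1 hmem hcomm
      · exact centre_spec clsB' hs.2.1 centre_ok.2 hmem hcomm
    rcases hz with e | e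
    · exact hu1 (by rw [show u = x * (x⁻¹ * u * x) * x⁻¹ by group, e]; group)
    · exact huv (by rw [← ev, ← e]; group)
  · push Not at h
    obtain ⟨g, hg, hgu⟩ := h
    exact gen_invol hu hu2 hu1 (mem_cen.mp hg).1 hgu hle hcu (hcv hg)

end CfsgLib.StdM12.Model
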