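import Cfsg.Agent.Lib.StdM12.Factor
import Cfsg.Agent.Lib.StdM12.Model.CentFacts

/-!
The facts on M12 used in the double case (`StdM12.WrFacts`).
-/

set_option autoImplicit false
set_option linter.style.haveILetI false

namespace CfsgLib.StdM12.Model

open CfsgGolay Data Cfsg
open Equiv (Perm)
open scoped commutatorElement

universe u

/-- A commutator, on codes. -/
def commC (a b : ℕ) : ℕ := pcomp (pcomp (pcomp a b) (pinv a)) (pinv b)

/-- Two commutators which are involutions with a product of order five. -/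
def fiveB (C : List ℕ) (i j k l : ℕ) : Bool :=
  Nat.blt i C.length && Nat.blt j C.length && Nat.blt k C.length && Nat.blt l C.length &&
    Nat.beq (pcomp (commC (C.getD i 0) (C.getD j 0)) (commC (C.getD i 0) (C.getD j 0))) pid &&
    Nat.beq (pcomp (commC (C.getD k 0) (C.getD l 0)) (commC (C.getD k 0) (C.getD l 0))) pid &&
    (let z := pcomp (commC (C.getD i 0) (C.getD j 0)) (commC (C.getD k 0) (C.getD l 0))
     Nat.beq (pcomp (pcomp (pcomp (pcomp z z) z) z) z) pid && !Nat.beq z pid)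

theorem five_ok : fiveB centA 0 21 0 82 = true ∧ fiveB centC 1 4 1 6 = true := by decide +kernel

theorem exists_five {r : Perm GolayPt} {cg C L : List ℕ} (K : Cls r cg C L) {i j k l : ℕ}
    (h : fiveB C i j k l = true) :
    ∃ p q p' q' : cen r, ⁅p, q⁆ * ⁅p, q⁆ = 1 ∧ ⁅p', q'⁆ * ⁅p', q'⁆ = 1 ∧
      (⁅p, q⁆ * ⁅p', q'⁆) ^ 5 = 1 ∧ ⁅p, q⁆ * ⁅p', q'⁆ ≠ 1 := by
  simp only [fiveB, commC, Bool.and_eq_true, Nat.blt_eq, Bool.not_eq_true'] at h
  obtain ⟨⟨⟨⟨⟨⟨hi, hj⟩, hk⟩, hl⟩, h1⟩, h2⟩, h5, hne⟩ := h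
  obtain ⟨a, ha, hac, har⟩ := K.mem i hi
  obtain ⟨b, hb, hbc, hbr⟩ := K.mem j hj
  obtain ⟨c, hc, hcc, hcr⟩ := K.mem k hk
  obtain ⟨d, hd, hdc, hdr⟩ := K.mem l hl
  refine ⟨⟨a, mem_cen.mpr ⟨ha, har⟩⟩, ⟨b, mem_cen.mpr ⟨hb, hbr⟩⟩, ⟨c, mem_cen.mpr ⟨hc, hcr⟩⟩,
    ⟨d, mem_cen.mpr ⟨hd, hdr⟩⟩, ?_, ?_, ?_, ?_⟩
  · refine Subtype.ext (code_inj ?_)
    simp only [Subgroup.coe_mul, Subgroup.coe_inv, OneMemClass.coe_one, commutatorElement_def, code_mul, code_inv,
      code_one, hac, hbc]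
    exact Nat.eq_of_beq_eq_true h1
  · refine Subtype.ext (code_inj ?_)
    simp only [Subgroup.coe_mul, Subgroup.coe_inv, OneMemClass.coe_one, commutatorElement_def, code_mul, code_inv,
      code_one, hcc, hdc]
    exact Nat.eq_of_beq_eq_true h2
  · refine Subtype.ext (code_inj ?_)
    rw [show ∀ z : cen r, z ^ 5 = z * z * z * z * z from fun z => by simp only [pow_succ, pow_zero, one_mul]]
    simp only [Subgroup.coe_mul, Subgroup.coe_inv, OneMemClass.coe_one, commutatorElement_def, code_mul, code_inv,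
      code_one, hac, hbc, hcc, hdc]
    exact Nat.eq_of_beq_eq_true h5
  · intro he
    have he' := congrArg (fun z : cen r => code (z : Perm GolayPt)) he
    simp only [Subgroup.coe_mul, Subgroup.coe_inv, OneMemClass.coe_one, commutatorElement_def, code_mul, code_inv,
      code_one, hac, hbc, hcc, hdc] at he'
    exact beq_false hne he'

section
variable {J : Type u} [Group J] (e : J ≃* ↥MM)

/-- An element of J with given conjugated permutation. -/
noncomputable def embC {x : Perm GolayPt} (hx : x ∈ MM) (r : Perm GolayPt) : cen r →* J :=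
  e.symm.toMonoidHom.comp (MonoidHom.mk' (fun y : cen r =>
    (⟨x * y * x⁻¹, MM.mul_mem (MM.mul_mem hx (mem_cen.mp y.2).1) (MM.inv_mem hx)⟩ : ↥MM)) fun a b =>
      Subtype.ext (show x * ((a : Perm GolayPt) * b) * x⁻¹ = x * a * x⁻¹ * (x * b * x⁻¹) by group))

theorem pv_embC {x : Perm GolayPt} (hx : x ∈ MM) {r : Perm GolayPt} (y : cen r) :
    pv e (embC e hx r y) = x * y * x⁻¹ :=
  congrArg Subtype.val (e.apply_symm_apply _)

theorem embC_inj {x : Perm GolayPt} (hx : x ∈ MM) (r : Perm GolayPt) : Function.Injective (embC e hx r) := by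
  intro a b h
  have h' := congrArg (pv e) h
  rw [pv_embC, pv_embC] at h'
  exact Subtype.ext (mul_left_cancel (mul_right_cancel h'))

set_option maxHeartbeats 400000 in
/-- An automorphism squaring to one fixes a conjugate of one of three centralisers. -/
theorem fixed_cen (a : MulAut J) (ha : a * a = 1) :
    ∃ k < 3, ∃ x : Perm GolayPt, ∃ hx : x ∈ MM, ∀ y : cen (rep k), a (embC e hx _ y) = embC e hx _ y := by
  obtain ⟨⟨g, hg⟩, rfl⟩ := lift e a
  have h2 : (⟨g, hg⟩ : ↥AA) * ⟨g, hg⟩ = 1 := conjA_inj e (by rw [map_mul, map_one]; exact ha)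
  have hg2 : g * g = 1 := congrArg Subtype.val h2
  by_cases hg1 : g = 1
  · refine ⟨1, by norm_num, 1, MM.one_mem, fun y => pv_inj e ?_⟩
    rw [pv_conjA]
    show g * _ * g⁻¹ = _
    rw [hg1]; group
  · obtain ⟨k, hk, x, hx, hxg⟩ := involutions hg hg2 hg1
    refine ⟨k, hk, x, hx, fun y => pv_inj e ?_⟩
    rw [pv_conjA, pv_embC]
    show g * _ * g⁻¹ = _
    rw [← hxg, show x * rep k * x⁻¹ * (x * y * x⁻¹) * (x * rep k * x⁻¹)⁻¹ = x * (rep k * y * (rep k)⁻¹) * x⁻¹ by group,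
      ← (mem_cen.mp y.2).2, mul_inv_cancel_right]

/-- A 2-subgroup fixed by an automorphism squaring to one. -/
theorem fixed_two {a : MulAut J} {k : ℕ} {x : Perm GolayPt} (hx : x ∈ MM)
    (hfix : ∀ y : cen (rep k), a (embC e hx _ y) = embC e hx _ y) {m : ℕ} (hm : 2 ^ m ∣ Nat.card (cen (rep k))) :
    ∃ U : Subgroup J, IsPGroup 2 ↥U ∧ (∀ y ∈ U, a y = y) ∧ 2 ^ m ≤ Nat.card U := by
  haveI : Fact (Nat.Prime 2) := ⟨Nat.prime_two⟩
  obtain ⟨P, hP⟩ := Sylow.exists_subgroup_card_pow_prime 2 hm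
  refine ⟨P.map (embC e hx _), (IsPGroup.of_card hP).map _, ?_, ?_⟩
  · rintro _ ⟨y, -, rfl⟩
    exact hfix y
  · rw [Subgroup.card_map_of_injective (embC_inj e hx _), hP]

/-- The facts used in the double case. -/
theorem wrFacts_of {t : J} (ht : pv e t = rep 1) : StdM12.WrFacts J t := by
  haveI : Fact (Nat.Prime 2) := ⟨Nat.prime_two⟩
  haveI : Finite J := Finite.of_equiv _ e.symm.toEquiv
  obtain ⟨-, -, hr2, -, hrM, -, h, hh, hhM, -, hhr⟩ := rep_spec (show 1 < 3 by norm_num)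
  have hcard : ∀ k < 3, Nat.card (cen (rep k)) = [240, 192, 120].getD k 0 := by
    intro k hk
    interval_cases k
    · rw [card_cen clsA', centA_ok.2.2]; rfl
    · rw [card_cen clsB', centB_ok.2.2]; rfl
    · rw [card_cen clsC', centC_ok.2.2]; rfl
  refine ⟨pv_inj e (by rw [map_mul, map_one, ht, hr2]), fun a => ?_, fun U hU => ?_, ?_, fun a ha => ?_,
    fun a ha => ?_⟩
  · obtain ⟨⟨g, hg⟩, rfl⟩ := lift e a
    obtain ⟨c, hc, hcr⟩ : ∃ c ∈ MM, c * rep 1 * c⁻¹ = g * rep 1 * g⁻¹ := by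
      by_cases hgM : g ∈ MM
      · exact ⟨g, hgM, rfl⟩
      · refine ⟨g * h, mul_out hg hgM hh hhM, ?_⟩
        rw [show g * h * rep 1 * (g * h)⁻¹ = g * (h * rep 1) * h⁻¹ * g⁻¹ by group, hhr]
        group
    obtain ⟨c, rfl⟩ := pv_surj e hc
    exact ⟨c, pv_inj e (by rw [pv_conjA, map_mul, map_mul, map_inv, ht]; exact hcr.symm)⟩
  · haveI : Finite (MulAut J) := Finite.of_surjective _ (conjA_surj e)
    obtain ⟨k, hk⟩ := IsPGroup.iff_card.mp hU
    have hdvd : 2 ^ k ∣ 190080 := by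
      rw [← hk, ← card_AA, Nat.card_congr (Equiv.ofBijective _ ⟨conjA_inj e, conjA_surj e⟩)]
      exact Subgroup.card_subgroup_dvd_card U
    have hk7 : k ≤ 7 := by
      by_contra hgt
      have : 2 ^ 8 ∣ 190080 := (pow_dvd_pow 2 (by omega : 8 ≤ k)).trans hdvd
      norm_num at this
    rw [hk]
    exact le_of_le_of_eq (Nat.pow_le_pow_right (by norm_num) hk7) (by norm_num)
  · rw [Nat.card_congr e.toEquiv, card_MM]
    norm_num
  · obtain ⟨k, hk, x, hx, hfix⟩ := fixed_cen e a ha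
    refine fixed_two e hx hfix (m := 3) ?_
    rw [hcard k hk]
    interval_cases k <;> norm_num
  · obtain ⟨k, hk, x, hx, hfix⟩ := fixed_cen e a ha
    have five : ∀ {cg C L : List ℕ}, Cls (rep k) cg C L → ∀ {i j k' l : ℕ}, fiveB C i j k' l = true →
        ∃ p q p' q' : J, a p = p ∧ a q = q ∧ a p' = p' ∧ a q' = q' ∧ ⁅p, q⁆ * ⁅p, q⁆ = 1 ∧
          ⁅p', q'⁆ * ⁅p', q'⁆ = 1 ∧ (⁅p, q⁆ * ⁅p', q'⁆) ^ 5 = 1 ∧ ⁅p, q⁆ * ⁅p', q'⁆ ≠ 1 := by
      intro cg C L K i j k' l hB
      obtain ⟨p, q, p', q', h1, h2, h5, hne⟩ := exists_five K hB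
      refine ⟨_, _, _, _, hfix p, hfix q, hfix p', hfix q', ?_, ?_, ?_, ?_⟩
      · rw [← map_commutatorElement, ← map_mul, h1, map_one]
      · rw [← map_commutatorElement, ← map_mul, h2, map_one]
      · rw [← map_commutatorElement, ← map_commutatorElement, ← map_mul, ← map_pow, h5, map_one]
      · rw [← map_commutatorElement, ← map_commutatorElement, ← map_mul]
        exact fun he => hne (embC_inj e hx _ (he.trans (map_one _).symm))
    interval_cases k
    · exact Or.inr (five clsA' five_ok.1)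
    · refine Or.inl (fixed_two e hx hfix (m := 6) ?_)
      rw [hcard 1 hk]
      norm_num
    · exact Or.inr (five clsC' five_ok.2)

end

/-- The Sylow subgroup, its central involution and the facts of the double case, for the Prelude's M12. -/
theorem facts_M12 {J : Type u} [Group J] (e : J ≃* ↥Cfsg.Spor.M12) :
    ∃ (SJ : Subgroup J) (t : J), StdM12.CentFacts SJ t ∧ StdM12.WrFacts J t := by
  obtain ⟨t, ht⟩ := pv_surj (e.trans (MulEquiv.subgroupCongr mm_eq))
    ((rep_spec (show 1 < 3 by norm_num)).2.2.2.2.1 (by norm_num))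
  obtain ⟨SJ, h⟩ := centFacts_of _ ht
  exact ⟨SJ, t, h, wrFacts_of _ ht⟩

end CfsgLib.StdM12.Model
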